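import Cfsg.Agent.Lib.Recog.OrderFive.Four
import Cfsg.Agent.Lib.Recog.OrderFive.Six

/-!
# Checks of the generated certificates: four-groups and the second involution
-/

set_option autoImplicit false
set_option maxRecDepth 100000

namespace Cfsg.Lib.Recog.OrderFive

/-- Two four-groups: order 1. -/
theorem four1_ok :
    (Data.four1.ok (fourRels 1) [] && hasW Data.four1.words [0, 1]) = true := by decide +kernel

/-- Two four-groups: order 2. -/
theorem four2_ok :
    (Data.four2.ok (fourRels 2) [] && hasW Data.four2.words [0, 1]) = true := by decide +kernel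

/-- Two four-groups: order 4. -/
theorem four4_ok :
    (Data.four4.ok (fourRels 4) [] && hasW Data.four4.words [0, 1]) = true := by decide +kernel

/-- Two four-groups: order 5. -/
theorem four5_ok :
    (Data.four5.ok (fourRels 5) [] && hasW Data.four5.words [0, 1]) = true := by decide +kernel

/-- Relations of the second involution. -/
theorem six_ok :
    (Data.six.ok (caseRels [3, 4, 5, 5, 4, 3, 5, 5]) [] &&
      hasW Data.six.words [0, 1, 0, 2, 3, 0, 2, 1, 0, 3, 0, 1, 0, 2, 0, 1, 0, 2, 3, 0, 2, 1, 0, 3, 0, 1, 0, 2] &&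
      hasW Data.six.words [0, 0, 1, 0, 2, 3, 0, 2, 1, 0, 3, 0, 1, 0, 2, 0, 0, 1, 0, 2, 3, 0, 2, 1, 0, 3, 0, 1, 0, 2] &&
      hasW Data.six.words [3, 0, 1, 0, 2, 3, 0, 2, 1, 0, 3, 0, 1, 0, 2, 3, 0, 1, 0, 2, 3, 0, 2, 1, 0, 3, 0, 1, 0, 2, 0]) = true := by
  decide +kernel

end Cfsg.Lib.Recog.OrderFive
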