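import Cfsg.Agent.Lib.CosetEnum.Defs

/-!
# Small enumeration certificates and case trees for groups with element orders at most five

A certificate derives facts on nodes from relations, as in `CosetEnum`, and then follows known
facts from node `0` back to node `0` along some target words.
-/

set_option autoImplicit false

namespace Cfsg.Lib.Recog.OrderFive

open Cfsg.Lib.CosetEnum

/-- An enumeration certificate. -/
structure Cert where
  /-- Facts. -/
  F : Tab
  /-- Steps. -/
  C : Tab
  /-- Number of node definitions. -/
  d : Nat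
  /-- Number of steps. -/
  e : Nat
  /-- The words which fix the base node, with the facts showing it. -/
  goals : List (List Nat × List Nat)

/-- The squares of the first `k` generators and the empty word. -/
def extras (k : Nat) : List (List Nat) := ((List.range k).map fun g => [g, g]) ++ [[]]

/-- A walk of facts returns to the base point and reads the word. -/
noncomputable def goalOK (F : Tab) (bound : Nat) (g : List Nat × List Nat) : Bool :=
  match walk F bound g.2 0 with
  | some (e, w) => Nat.beq e 0 && beqW w g.1
  | none => false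

/-- The checks on a certificate with relations `R` and subgroup words `U`. -/
noncomputable def Cert.ok (c : Cert) (R U : List (List Nat)) : Bool :=
  defsOK c.F c.d 0 && stepsOK R U c.F c.C c.d c.e 0 &&
    c.goals.all fun g => goalOK c.F (c.d + c.e) g

/-- The words of the certificate's goals. -/
def Cert.words (c : Cert) : List (List Nat) := c.goals.map Prod.fst

/-- The base relations of `3² : 2` in three involutions, and one commuting with the first. -/
def baseRels : List (List Nat) :=
  [[0, 1, 0, 1, 0, 1], [0, 2, 0, 2, 0, 2], [1, 2, 1, 2, 1, 2], [0, 1, 2, 0, 1, 2], [0, 3, 0, 3]]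

/-- The words whose orders are split on. -/
def splitWord : Nat → List Nat
  | 0 => [3, 0, 1]
  | 1 => [3, 0, 2]
  | 2 => [3, 0, 1, 0, 2]
  | 3 => [3, 0, 1, 2, 0]
  | 4 => [3, 1]
  | 5 => [3, 2]
  | 6 => [3, 1, 0, 2]
  | 7 => [3, 1, 2, 0]
  | 8 => [3, 0, 1, 3, 0, 2]
  | _ => [3, 0, 1, 3, 2]

/-- A power of a word. -/
def powW (k : Nat) (w : List Nat) : List Nat := (List.replicate k w).flatten

/-- The relations saying that the split words from the `i`-th on have the listed orders. -/
def powRels : Nat → List Nat → List (List Nat)
  | _, [] => []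
  | i, k :: ks => powW k (splitWord i) :: powRels (i + 1) ks

/-- The relations of a case. -/
def caseRels (ks : List Nat) : List (List Nat) := baseRels ++ powRels 0 ks ++ extras 4

/-- Orders of the split words in an alternating group of degree six. -/
def sixPatterns : List (List Nat) :=
  [[3, 4, 5, 5, 4, 3, 5, 5], [3, 5, 4, 5, 4, 5, 3, 5], [3, 5, 5, 4, 4, 5, 5, 3],
   [4, 3, 5, 5, 3, 4, 5, 5], [4, 5, 3, 5, 3, 5, 4, 5], [4, 5, 5, 3, 3, 5, 5, 4],
   [5, 3, 4, 5, 5, 4, 3, 5], [5, 3, 5, 4, 5, 4, 5, 3], [5, 4, 3, 5, 5, 3, 4, 5],
   [5, 4, 5, 3, 5, 3, 5, 4], [5, 5, 3, 4, 5, 5, 4, 3], [5, 5, 4, 3, 5, 5, 3, 4]]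

/-- Generators of `3² : 2`. -/
def subWords : List (List Nat) := [[0], [1], [2]]

/-- Words for elements of order three of `3² : 2`. -/
def torsionWords : List (List Nat) := [[0, 1], [0, 2], [1, 2], [0, 1, 0, 2]]

/-- Does a list of words contain a word? -/
def hasW (l : List (List Nat)) (w : List Nat) : Bool := l.any fun v => beqW v w

/-- The proof that the listed orders are impossible, by a case split on the next word. -/
inductive Tree
  /-- The fourth generator lies in `3² : 2`. -/
  | inside (c : Cert)
  /-- An element of order three collapses. -/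
  | collapse (c : Cert) (w : List Nat)
  /-- A pattern of the alternating group of degree six. -/
  | six
  /-- Split on orders three, four and five. -/
  | split3 (t3 t4 t5 : Tree)
  /-- Split on all orders up to five. -/
  | split5 (t1 t2 t3 t4 t5 : Tree)

/-- The checks on a tree. -/
noncomputable def Tree.ok : Tree → List Nat → Bool
  | .inside c, ks => c.ok (caseRels ks) subWords && hasW c.words [3]
  | .collapse c w, ks => c.ok (caseRels ks) [] && hasW torsionWords w && hasW c.words w
  | .six, ks => hasW sixPatterns ks
  | .split3 t3 t4 t5, ks => Nat.blt ks.length 8 &&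
      t3.ok (ks ++ [3]) && t4.ok (ks ++ [4]) && t5.ok (ks ++ [5])
  | .split5 t1 t2 t3 t4 t5, ks => t1.ok (ks ++ [1]) && t2.ok (ks ++ [2]) &&
      t3.ok (ks ++ [3]) && t4.ok (ks ++ [4]) && t5.ok (ks ++ [5])

/-- The relations of the standard pattern with a fifth generator commuting with a given element
of order four and having the listed orders with the base. -/
def pairRels (ks : List Nat) : List (List Nat) :=
  baseRels ++ powRels 0 [3, 4, 5, 5, 4, 3, 5, 5] ++ [[0, 4, 0, 4]] ++ extraPow ks ++
    [[4, 3, 0, 1, 0, 2, 3, 0, 2, 1, 0, 3, 0, 1, 0, 2, 4,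
      2, 0, 1, 0, 3, 0, 1, 2, 0, 3, 2, 0, 1, 0, 3]] ++ extras 5
where
  /-- The same relations for the fifth generator. -/
  extraPow (ks : List Nat) : List (List Nat) :=
    (powRels 0 ks).map fun r => r.map fun g => cond (Nat.beq g 3) 4 g

/-- The relations of four involutions permuted by an element of order three as in two four
groups, with the product of the first in each of order five. -/
def fourRels (k : Nat) : List (List Nat) :=
  [[0, 2, 0, 2], [1, 3, 1, 3], powW 5 [0, 1], powW 5 [2, 3], powW 5 [0, 2, 1, 3],
   [0, 1, 0, 2, 3, 2, 0, 2, 1, 3, 0, 2], [1, 0, 1, 3, 2, 3, 1, 3, 0, 2, 1, 3],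
   [0, 1, 0, 1, 0, 2, 3, 2, 3, 2, 0, 2, 1, 3, 0, 2, 1, 3, 0, 2],
   powW k [0, 3], powW k [2, 1, 3], powW k [0, 2, 3, 1, 3]] ++ extras 4

end Cfsg.Lib.Recog.OrderFive
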