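import Mathlib
import Cfsg.Agent.Lib.CosetEnum.Check
import Cfsg.Agent.Lib.Recog.OrderFive.Defs

/-!
# Soundness of the certificates for groups with element orders at most five
-/

set_option autoImplicit false

namespace Cfsg.Lib.Recog.OrderFive

open Cfsg.Lib.CosetEnum (Tab eps gen act act_cons act_nil beqW beqW_eq)

variable {G : Type*} [Group G]

/-- The product of a word. -/
def prodW (x : ℕ → G) (w : List ℕ) : G := (w.map (gen x)).prod

@[simp] theorem prodW_nil (x : ℕ → G) : prodW x [] = 1 := rfl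

theorem prodW_cons (x : ℕ → G) (g : ℕ) (w : List ℕ) :
    prodW x (g :: w) = gen x g * prodW x w := by simp [prodW]

theorem prodW_append (x : ℕ → G) (v w : List ℕ) :
    prodW x (v ++ w) = prodW x v * prodW x w := by simp [prodW]

theorem prodW_powW (x : ℕ → G) (k : ℕ) (w : List ℕ) : prodW x (powW k w) = prodW x w ^ k := by
  induction k with
  | zero => simp [powW]
  | succ k ih =>
    rw [pow_succ', ← ih, ← prodW_append]
    simp [powW, List.replicate_succ]

variable {α : Type*} [MulAction G α] {x : ℕ → G}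

theorem act_eq (hx : ∀ g, x g * x g = 1) : ∀ (w : List ℕ) (q : α),
    act x w q = (prodW x w)⁻¹ • q
  | [], q => by simp
  | g :: w, q => by
    have hg : (gen x g)⁻¹ = gen x g := by
      refine inv_eq_of_mul_eq_one_left ?_
      unfold gen; split
      · simp
      · exact hx g
    rw [act_cons, act_eq hx w, prodW_cons, mul_inv_rev, mul_smul, hg]

theorem hasW_iff {l : List (List ℕ)} {w : List ℕ} (h : hasW l w = true) : w ∈ l := by
  simp only [hasW, List.any_eq_true] at h
  obtain ⟨v, hv, e⟩ := h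
  exact beqW_eq e ▸ hv

theorem extras_trivial (hx : ∀ g, x g * x g = 1) (k : ℕ) : ∀ r ∈ extras k, prodW x r = 1 := by
  intro r hr
  simp only [extras, List.mem_append, List.mem_map, List.mem_range, List.mem_singleton] at hr
  rcases hr with ⟨g, -, rfl⟩ | rfl
  · rw [prodW_cons, prodW_cons, prodW_nil, mul_one]
    unfold gen; split
    · simp
    · exact hx g
  · simp

/-- The words of a checked certificate fix the base point. -/
theorem Cert.fixed {c : Cert} {R U : List (List ℕ)} (hc : c.ok R U = true)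
    (hx : ∀ g, x g * x g = 1) (hR : ∀ r ∈ R, prodW x r = 1) (q₀ : α)
    (hU : ∀ r ∈ U, prodW x r • q₀ = q₀) {w : List ℕ} (hw : w ∈ c.words) :
    prodW x w • q₀ = q₀ := by
  simp only [Cert.ok, Bool.and_eq_true, List.all_eq_true] at hc
  obtain ⟨⟨h1, h2⟩, h3⟩ := hc
  obtain ⟨φ, h0, hφ⟩ := Cfsg.Lib.CosetEnum.exists_labelling x q₀ (F := c.F) (d := c.d)
    fun i hi => Cfsg.Lib.CosetEnum.defsOK_get h1 i (Nat.zero_le _) (by omega)
  have hU' : ∀ r ∈ U, act x r (φ 0) = φ 0 := fun r hr => by
    rw [h0, act_eq hx, inv_smul_eq_iff, hU r hr]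
  have hR' : ∀ r ∈ R, ∀ q : α, act x r q = q := fun r hr q => by
    rw [act_eq hx, hR r hr, inv_one, one_smul]
  have hall := Cfsg.Lib.CosetEnum.stepsOK_sound hx hR' hU' h2 (j := 0) (by simpa using hφ)
  simp only [Cert.words, List.mem_map] at hw
  obtain ⟨g, hg, rfl⟩ := hw
  have h4 := h3 g hg
  unfold goalOK at h4
  split at h4
  · next e w' heq =>
    simp only [Bool.and_eq_true, Nat.beq_eq] at h4
    obtain ⟨rfl, h5⟩ := h4
    have h6 := Cfsg.Lib.CosetEnum.walk_sound hx hall heq
    rw [beqW_eq h5, h0, act_eq hx, inv_smul_eq_iff] at h6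
    exact h6.symm
  · simp at h4

/-- A word of a checked certificate without subgroup words is trivial. -/
theorem Cert.eq_one {c : Cert} {R : List (List ℕ)} (hc : c.ok R [] = true)
    (hx : ∀ g, x g * x g = 1) (hR : ∀ r ∈ R, prodW x r = 1) {w : List ℕ} (hw : w ∈ c.words) :
    prodW x w = 1 := by
  simpa using Cert.fixed hc hx hR (1 : G) (by simp) hw

/-- A word of a checked certificate lies in the subgroup. -/
theorem Cert.mem {c : Cert} {R U : List (List ℕ)} (hc : c.ok R U = true)
    (hx : ∀ g, x g * x g = 1) (hR : ∀ r ∈ R, prodW x r = 1) (H : Subgroup G)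
    (hU : ∀ r ∈ U, prodW x r ∈ H) {w : List ℕ} (hw : w ∈ c.words) : prodW x w ∈ H := by
  have h := Cert.fixed hc hx hR ((1 : G) : G ⧸ H) (fun r hr => ?_) hw
  · rw [MulAction.Quotient.smul_coe, smul_eq_mul, mul_one, QuotientGroup.eq] at h
    simpa using h
  · rw [MulAction.Quotient.smul_coe, smul_eq_mul, mul_one, QuotientGroup.eq]
    simpa using hU r hr

end Cfsg.Lib.Recog.OrderFive
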