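import Mathlib
import Cfsg.Agent.Lib.Invol.Basic
import Cfsg.Agent.Lib.Invol.BaerSuzuki
import Cfsg.Agent.Lib.Recog.OrderFive.Sound
import Cfsg.Agent.Lib.Recog.OrderFive.ChecksMisc

/-!
# Element orders at most five: an element of order three is inverted by an involution

If no element of order three is inverted, every involution `u` and every element `y` of order three
generate a copy of the alternating group of degree four, any two involutions generate a 2-group,
and the theorem of Baer and Suzuki puts every involution in `O₂`.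
-/

set_option autoImplicit false
set_option linter.unusedSectionVars false

namespace Cfsg.Lib.Recog.OrderFive

open Cfsg.Lib.CosetEnum (gen eps)
open Cfsg.Lib.Invol (inv_mul_self inv_eq_self ne_one orderOf_eq_two_of)

variable {G : Type*} [Group G] [Finite G]

/-- All element orders are at most five. -/
def OrdFive (G : Type*) [Group G] : Prop := ∀ g : G, orderOf g ≤ 5

theorem OrdFive.pow_eq_one (h : OrdFive G) (g : G) :
    g = 1 ∨ g ^ 2 = 1 ∨ g ^ 3 = 1 ∨ g ^ 4 = 1 ∨ g ^ 5 = 1 := by
  have h0 := orderOf_pos g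
  have h5 := h g
  have h1 := pow_orderOf_eq_one g
  interval_cases orderOf g <;> simp_all

theorem OrdFive.not_commute (h : OrdFive G) {t y : G} (ht : orderOf t = 2) (hy : orderOf y = 3) :
    ¬ Commute t y := fun hc => by
  have := h (t * y)
  rw [hc.orderOf_mul_eq_mul_orderOf_of_coprime (by rw [ht, hy]; decide), ht, hy] at this
  omega

/-- An element inverted by an involution. -/
def Inverted (y : G) : Prop := ∃ t : G, orderOf t = 2 ∧ t * y * t = y⁻¹

theorem inverted_of_mul_sq {w y : G} (hw : orderOf w = 2) (h : w * y * (w * y) = 1) :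
    Inverted y := by
  refine ⟨w, hw, eq_inv_of_mul_eq_one_left ?_⟩
  rw [← h]; group

theorem orderOf_conj' {u g : G} : orderOf (g⁻¹ * u * g) = orderOf u := by
  simpa using Cfsg.Lib.Invol.orderOf_conj_eq g⁻¹ u

theorem cube_eq_one {y : G} (hy : orderOf y = 3) : y * y * y = 1 := by
  have := pow_orderOf_eq_one y
  rw [hy, pow_succ, pow_two] at this
  exact this

theorem inverted_of_four {u y : G} (hu : orderOf u = 2) (hy : orderOf y = 3)
    (h4 : (u * y) ^ 4 = 1) : Inverted y := by
  have huu := inv_mul_self hu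
  have hui := inv_eq_self hu
  have hy3 : y * y * y = 1 := cube_eq_one hy
  have hyi : y⁻¹ = y * y := inv_eq_of_mul_eq_one_left hy3
  have u2 : ∀ z : G, u * (u * z) = z := fun z => by rw [← mul_assoc, huu, one_mul]
  have y3 : ∀ z : G, y * (y * (y * z)) = z := fun z => by
    rw [← mul_assoc, ← mul_assoc, hy3, one_mul]
  have y3' : y * (y * y) = 1 := by rw [← mul_assoc, hy3]
  have hyuyu : y * u * y * u = u * y⁻¹ * u * y⁻¹ := by
    have e : y * u * y * u * (y * u * y * u) = 1 := by
      have := congrArg (fun z => u * z * u⁻¹) h4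
      simpa [pow_succ, mul_assoc, hui, u2, huu] using this
    rw [eq_inv_of_mul_eq_one_left e, mul_inv_rev, mul_inv_rev, mul_inv_rev, hui]
    simp only [mul_assoc]
  refine inverted_of_mul_sq (w := (y⁻¹ * u * y)⁻¹ * u * (y⁻¹ * u * y)) ?_ ?_
  · rw [orderOf_conj', hu]
  · have e1 : (y⁻¹ * u * y)⁻¹ * u * (y⁻¹ * u * y) * y * ((y⁻¹ * u * y)⁻¹ * u * (y⁻¹ * u * y) * y) =
        y⁻¹ * (u * y * u * y⁻¹ * u * (y * u * y * u) * y⁻¹ * u * y) * y := by
      simp only [mul_inv_rev, inv_inv, hui, hyi, mul_assoc, u2, y3, huu, y3', mul_one, one_mul]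
    rw [e1, hyuyu]
    have e2 : u * y * u * y⁻¹ * u * (u * y⁻¹ * u * y⁻¹) * y⁻¹ * u * y = (u * y) ^ 4 := by
      simp only [pow_succ, pow_zero, hyi, mul_assoc, u2, y3, huu, y3', mul_one, one_mul]
    rw [e2, h4, mul_one, inv_mul_cancel]

theorem inverted_of_five {u y : G} (hu : orderOf u = 2) (hy : orderOf y = 3)
    (h5 : (u * y) ^ 5 = 1) : Inverted y := by
  have huu := inv_mul_self hu
  have hui := inv_eq_self hu
  have hy3 : y * y * y = 1 := cube_eq_one hy
  have hyi : y⁻¹ = y * y := inv_eq_of_mul_eq_one_left hy3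
  have u2 : ∀ z : G, u * (u * z) = z := fun z => by rw [← mul_assoc, huu, one_mul]
  have y3 : ∀ z : G, y * (y * (y * z)) = z := fun z => by
    rw [← mul_assoc, ← mul_assoc, hy3, one_mul]
  have y3' : y * (y * y) = 1 := by rw [← mul_assoc, hy3]
  have hr1 : (u * y⁻¹) ^ 5 = 1 := by
    have : (y⁻¹ * (u * y) * y) ^ 5 = 1 := by
      have := conj_pow (i := 5) (a := y⁻¹) (b := u * y)
      rw [inv_inv] at this
      rw [this, h5, mul_one, inv_mul_cancel]
    have e : u * y⁻¹ = y * (u * y)⁻¹ * y⁻¹ * (u * y⁻¹ * y * u) := by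
      simp [hui, mul_assoc, u2, huu]
    have e' : u * y⁻¹ = (y * u)⁻¹ := by rw [mul_inv_rev, hui]
    rw [e', inv_pow, inv_eq_one]
    have := conj_pow (i := 5) (a := y) (b := u * y)
    rw [h5, mul_one, mul_inv_cancel] at this
    simpa [mul_assoc] using this
  have hr2 : (y⁻¹ * u) ^ 5 = 1 := by
    have e : y⁻¹ * u = (u * y)⁻¹ := by rw [mul_inv_rev, hui]
    rw [e, inv_pow, h5, inv_one]
  have n0 : y*(u*(y*(u*(y*(u*(y*(u*(y*u)))))))) = 1 := by
    have := conj_pow (i := 5) (a := y) (b := u * y)
    rw [h5, mul_one, mul_inv_cancel] at this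
    simpa [pow_succ, mul_assoc] using this
  have step : ∀ {r x g n : G}, r = 1 → n = 1 → r * x = g * n * g⁻¹ → x = 1 := by
    intro r x g n hr hn e
    rw [hr, hn, one_mul, mul_one, mul_inv_cancel] at e
    exact e
  have n1 : y*(u*(y⁻¹*(u*(y*(u*(y*(u*(y*(u*(y⁻¹*(u*(y*(u*(y*u)))))))))))))) = 1 :=
    step (g := u*(y⁻¹*(u*(y⁻¹*(u*(y⁻¹*u)))))) hr1 n0
      (by simp only [pow_succ, pow_zero, mul_inv_rev, inv_inv, hui, hyi, mul_assoc, u2, y3, huu,
        y3', mul_one, one_mul])
  have n2 : y*(u*(y⁻¹*(u*(y*(u*(y*(u*(y⁻¹*(u*(y*(u*(y*(u*(y⁻¹*(u*(y*u)))))))))))))))) = 1 :=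
    step (g := u*(y⁻¹*(u*(y⁻¹*(u*(y⁻¹*(u*(y*(u*(y*u)))))))))) hr1 n1
      (by simp only [pow_succ, pow_zero, mul_inv_rev, inv_inv, hui, hyi, mul_assoc, u2, y3, huu,
        y3', mul_one, one_mul])
  refine inverted_of_mul_sq (w := (u * y * u * y⁻¹) * u * (u * y * u * y⁻¹)⁻¹) ?_ ?_
  · rw [Cfsg.Lib.Invol.orderOf_conj_eq, hu]
  · exact step (g := y⁻¹*(u*(y⁻¹*(u*(y⁻¹*(u*(y*u))))))) hr2 n2
      (by simp only [pow_succ, pow_zero, mul_inv_rev, inv_inv, hui, hyi, mul_assoc, u2, y3, huu,
        y3', mul_one, one_mul])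

variable (h : OrdFive G) (hno : ∀ y : G, orderOf y = 3 → ¬ Inverted y)

include h hno

theorem alt_four {u y : G} (hu : orderOf u = 2) (hy : orderOf y = 3) :
    u * (y⁻¹ * u * y) * (y * u * y⁻¹) = 1 := by
  have hy' : orderOf y⁻¹ = 3 := by rw [orderOf_inv, hy]
  have hui := inv_eq_self hu
  have h3 : (u * y⁻¹) ^ 3 = 1 := by
    rcases h.pow_eq_one (u * y⁻¹) with e | e | e | e | e
    · rw [e, one_pow]
    · exact absurd (inverted_of_mul_sq hu (by rw [← e, pow_two])) (hno _ hy')
    · exact e
    · exact absurd (inverted_of_four hu hy' e) (hno _ hy')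
    · exact absurd (inverted_of_five hu hy' e) (hno _ hy')
  have hy3 : y * y * y = 1 := cube_eq_one hy
  have hyi : y⁻¹ = y * y := inv_eq_of_mul_eq_one_left hy3
  have y3 : ∀ z : G, y * (y * (y * z)) = z := fun z => by
    rw [← mul_assoc, ← mul_assoc, hy3, one_mul]
  have y3' : y * (y * y) = 1 := by rw [← mul_assoc, hy3]
  rw [← h3]
  simp only [pow_succ, pow_zero, hyi, mul_assoc, y3, y3', mul_one, one_mul]

/-- The product of two involutions has order at most two or four. -/
theorem mul_pow_four {u v : G} (hu : orderOf u = 2) (hv : orderOf v = 2)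
    (hy : ∃ y : G, orderOf y = 3) : (u * v) ^ 4 = 1 := by
  obtain ⟨y, hy⟩ := hy
  rcases h.pow_eq_one (u * v) with e | e | e | e | e
  · rw [e, one_pow]
  · rw [show (u * v) ^ 4 = ((u * v) ^ 2) ^ 2 by rw [← pow_mul], e, one_pow]
  · by_cases h1 : u * v = 1
    · rw [h1, one_pow]
    · exfalso
      refine hno (u * v) (orderOf_eq_prime e h1) ⟨u, hu, ?_⟩
      rw [mul_inv_rev, inv_eq_self hu, inv_eq_self hv, ← mul_assoc, inv_mul_self hu, one_mul]
  · exact e
  · have e5 := e
    by_cases h1 : u * v = 1
    · rw [h1, one_pow]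
    exfalso
    let p := y⁻¹ * u * y
    let q := y⁻¹ * v * y
    have hp : orderOf p = 2 := by rw [orderOf_conj', hu]
    have hq : orderOf q = 2 := by rw [orderOf_conj', hv]
    have hup : u * p = y * u * y⁻¹ := by
      have := eq_inv_of_mul_eq_one_left (alt_four h hno hu hy)
      rw [this]; simp [mul_assoc, inv_eq_self hu]
    have hvq : v * q = y * v * y⁻¹ := by
      have := eq_inv_of_mul_eq_one_left (alt_four h hno hv hy)
      rw [this]; simp [mul_assoc, inv_eq_self hv]
    let x : ℕ → G := fun g => match g with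
      | 0 => u
      | 1 => v
      | 2 => p
      | 3 => q
      | _ => 1
    have hx : ∀ g, x g * x g = 1 := by
      intro g
      match g with
      | 0 => exact inv_mul_self hu
      | 1 => exact inv_mul_self hv
      | 2 => exact inv_mul_self hp
      | 3 => exact inv_mul_self hq
      | _ + 4 => exact one_mul 1
    have hsq : ∀ {a : G}, orderOf a = 2 → (y * a * y⁻¹) * (y * a * y⁻¹) = 1 := fun {a} ha =>
      inv_mul_self (by rw [Cfsg.Lib.Invol.orderOf_conj_eq, ha])
    have hu2 : (u * p) * (u * p) = 1 := hup ▸ hsq hu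
    have hv2 : (v * q) * (v * q) = 1 := hvq ▸ hsq hv
    have hk : ∃ k ∈ [1, 2, 4, 5], (u * q) ^ k = 1 := by
      rcases h.pow_eq_one (u * q) with e' | e' | e' | e' | e'
      · exact ⟨1, by simp, by rw [e', one_pow]⟩
      · exact ⟨2, by simp, e'⟩
      · by_cases h2 : u * q = 1
        · exact ⟨1, by simp, by rw [h2, one_pow]⟩
        · refine absurd ⟨u, hu, ?_⟩ (hno (u * q) (orderOf_eq_prime e' h2))
          rw [mul_inv_rev, inv_eq_self hu, inv_eq_self hq, ← mul_assoc, inv_mul_self hu, one_mul]
      · exact ⟨4, by simp, e'⟩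
      · exact ⟨5, by simp, e'⟩
    obtain ⟨k, hk, hkq⟩ := hk
    have c1 : y⁻¹ * (u * v) * y = p * q := by simp [p, q, mul_assoc]
    have c2 : y * (u * v) * y⁻¹ = u * p * (v * q) := by rw [hup, hvq]; group
    have cq1 : y⁻¹ * (u * q) * y = p * (v * q) := by
      rw [hvq]; simp only [p, q]
      have hy3 : y * y * y = 1 := cube_eq_one hy
      have hyi : y⁻¹ = y * y := inv_eq_of_mul_eq_one_left hy3
      have y3 : ∀ z : G, y * (y * (y * z)) = z := fun z => by
        rw [← mul_assoc, ← mul_assoc, hy3, one_mul]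
      simp [hyi, mul_assoc, y3]
    have cq2 : y * (u * q) * y⁻¹ = u * p * v := by rw [hup]; simp [q, mul_assoc]
    have pw : ∀ {a g : G} {n : ℕ}, a ^ n = 1 → (g * a * g⁻¹) ^ n = 1 := fun {a g n} ha => by
      rw [conj_pow, ha, mul_one, mul_inv_cancel]
    have hR : ∀ r ∈ fourRels k, prodW x r = 1 := by
      intro r hr
      simp only [fourRels, List.mem_append] at hr
      rcases hr with hr | hr
      · simp only [List.mem_cons, List.not_mem_nil, or_false] at hr
        have t1 := alt_four h hno (u := u * v * u) (y := y)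
          (by have := (orderOf_conj' (u := v) (g := u)).trans hv; rwa [inv_eq_self hu] at this) hy
        have t2 := alt_four h hno (u := v * u * v) (y := y)
          (by have := (orderOf_conj' (u := u) (g := v)).trans hu; rwa [inv_eq_self hv] at this) hy
        have t3 := alt_four h hno (u := u * v * u * v * u) (y := y)
          (by
            have := (orderOf_conj' (u := u) (g := v * u)).trans hu
            simpa [mul_assoc, inv_eq_self hu, inv_eq_self hv] using this) hy
        have d1 : ∀ a b : G, y⁻¹ * (a * b * a) * y = (y⁻¹ * a * y) * (y⁻¹ * b * y) * (y⁻¹ * a * y) :=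
          fun a b => by group
        have d2 : ∀ a b : G, y * (a * b * a) * y⁻¹ = (y * a * y⁻¹) * (y * b * y⁻¹) * (y * a * y⁻¹) :=
          fun a b => by group
        have d3 : ∀ a b : G, y⁻¹ * (a * b * a * b * a) * y = (y⁻¹ * a * y) * (y⁻¹ * b * y) *
            (y⁻¹ * a * y) * (y⁻¹ * b * y) * (y⁻¹ * a * y) := fun a b => by group
        have d4 : ∀ a b : G, y * (a * b * a * b * a) * y⁻¹ = (y * a * y⁻¹) * (y * b * y⁻¹) *
            (y * a * y⁻¹) * (y * b * y⁻¹) * (y * a * y⁻¹) := fun a b => by group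
        rw [d1, d2] at t1 t2
        rw [d3, d4] at t3
        rw [← hup, ← hvq] at t1 t2 t3
        rcases hr with rfl | rfl | rfl | rfl | rfl | rfl | rfl | rfl | rfl | rfl | rfl
        · simpa [prodW, gen, eps, x, mul_assoc] using hu2
        · simpa [prodW, gen, eps, x, mul_assoc] using hv2
        · rw [prodW_powW]; simpa [prodW, gen, eps, x] using e5
        · rw [prodW_powW]
          have := pw (g := y⁻¹) e5
          rw [inv_inv, c1] at this
          simpa [prodW, gen, eps, x] using this
        · rw [prodW_powW]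
          have := pw (g := y) e5
          rw [c2] at this
          simpa [prodW, gen, eps, x, mul_assoc] using this
        · simpa [prodW, gen, eps, x, p, q, mul_assoc] using t1
        · simpa [prodW, gen, eps, x, p, q, mul_assoc] using t2
        · simpa [prodW, gen, eps, x, p, q, mul_assoc] using t3
        · rw [prodW_powW]; simpa [prodW, gen, eps, x] using hkq
        · rw [prodW_powW]
          have := pw (g := y⁻¹) hkq
          rw [inv_inv, cq1] at this
          simpa [prodW, gen, eps, x, mul_assoc] using this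
        · rw [prodW_powW]
          have := pw (g := y) hkq
          rw [cq2] at this
          have e : u * p * v = u * p * (q * (v * q)) := by
            have hvv := inv_mul_self hv
            have hqq := inv_mul_self hq
            have hc : q * v = v * q := by
              have h9 := eq_inv_of_mul_eq_one_left hv2
              rw [mul_inv_rev, inv_eq_self hv, inv_eq_self hq] at h9
              exact h9.symm
            rw [← mul_assoc q v q, hc, mul_assoc v q q, hqq, mul_one]
          rw [e] at this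
          simpa [prodW, gen, eps, x, mul_assoc] using this
      · exact extras_trivial hx 4 r hr
    have hgoal : prodW x [0, 1] = 1 := by
      rcases (List.mem_cons.1 hk) with rfl | hk
      · have := four1_ok; rw [Bool.and_eq_true] at this
        exact Cert.eq_one this.1 hx hR (hasW_iff this.2)
      rcases (List.mem_cons.1 hk) with rfl | hk
      · have := four2_ok; rw [Bool.and_eq_true] at this
        exact Cert.eq_one this.1 hx hR (hasW_iff this.2)
      rcases (List.mem_cons.1 hk) with rfl | hk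
      · have := four4_ok; rw [Bool.and_eq_true] at this
        exact Cert.eq_one this.1 hx hR (hasW_iff this.2)
      rcases (List.mem_cons.1 hk) with rfl | hk
      · have := four5_ok; rw [Bool.and_eq_true] at this
        exact Cert.eq_one this.1 hx hR (hasW_iff this.2)
      simp at hk
    exact h1 (by simpa [prodW, gen, eps, x] using hgoal)

omit hno in
/-- An element of order three is inverted by an involution, unless `O₂` is non-trivial. -/
theorem exists_inverted (hcore : ∀ N : Subgroup G, N.Normal → IsPGroup 2 N → N = ⊥)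
    (h2 : ∃ u : G, orderOf u = 2) (h3 : ∃ y : G, orderOf y = 3) :
    ∃ y : G, orderOf y = 3 ∧ Inverted y := by
  by_contra hcon
  push Not at hcon
  obtain ⟨u, hu⟩ := h2
  haveI : Fact (Nat.Prime 2) := ⟨Nat.prime_two⟩
  have hX : IsPGroup 2 (Subgroup.zpowers u) :=
    IsPGroup.of_card (n := 1) (by rw [Nat.card_zpowers, hu, pow_one])
  obtain ⟨N, hN, hN2, hle⟩ := Cfsg.Lib.Invol.baerSuzuki (Subgroup.zpowers u) hX fun g => by
    have hv : orderOf (g * u * g⁻¹) = 2 := by rw [Cfsg.Lib.Invol.orderOf_conj_eq, hu]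
    have hle : Subgroup.zpowers u ⊔ (Subgroup.zpowers u).map (MulAut.conj g).toMonoidHom ≤
        Subgroup.closure ({u, g * u * g⁻¹} : Set G) := by
      rw [MonoidHom.map_zpowers, sup_le_iff, Subgroup.zpowers_le, Subgroup.zpowers_le]
      exact ⟨Subgroup.subset_closure (by simp), Subgroup.subset_closure (by simp)⟩
    refine IsPGroup.to_le ?_ hle
    intro ⟨d, hd⟩
    refine ⟨2, Subtype.ext ?_⟩
    rw [Subgroup.coe_pow, Subgroup.coe_one]
    show d ^ 4 = 1
    have h4 := mul_pow_four h hcon hu hv h3
    obtain ⟨k, rfl | rfl⟩ := (Cfsg.Lib.Invol.mem_closure_pair hu hv).1 hd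
    · rw [← zpow_natCast, ← zpow_mul, mul_comm, zpow_mul, zpow_natCast, h4, one_zpow]
    · rw [show 4 = 2 + 2 from rfl, pow_add, pow_two,
        Cfsg.Lib.Invol.mul_zpow_sq (inv_mul_self hu) (Cfsg.Lib.Invol.conj_mul_left hu hv), one_mul]
  rw [hcore N hN hN2, Subgroup.zpowers_le, Subgroup.mem_bot] at hle
  exact ne_one hu hle

end Cfsg.Lib.Recog.OrderFive
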