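import Cfsg.Agent.Lib.Recog.OrderFive.Pair0
import Cfsg.Agent.Lib.Recog.OrderFive.Pair1
import Cfsg.Agent.Lib.Recog.OrderFive.Pair2
import Cfsg.Agent.Lib.Recog.OrderFive.Pair3
import Cfsg.Agent.Lib.Recog.OrderFive.Pair4
import Cfsg.Agent.Lib.Recog.OrderFive.Pair5

/-!
# Checks of the generated certificates: fifth involutions
-/

set_option autoImplicit false
set_option maxRecDepth 100000

namespace Cfsg.Lib.Recog.OrderFive

/-- Pattern 0 is impossible. -/
theorem pair0_ok :
    (Data.pair0.ok (pairRels [3, 4, 5, 5, 4, 3, 5, 5]) subWords && hasW Data.pair0.words [3]) = true := by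
  decide +kernel

/-- Pattern 1 is impossible. -/
theorem pair1_ok :
    (Data.pair1.ok (pairRels [3, 5, 4, 5, 4, 5, 3, 5]) subWords && hasW Data.pair1.words [3]) = true := by
  decide +kernel

/-- Pattern 2 is impossible. -/
theorem pair2_ok :
    (Data.pair2.ok (pairRels [3, 5, 5, 4, 4, 5, 5, 3]) subWords && hasW Data.pair2.words [3]) = true := by
  decide +kernel

/-- Pattern 3 is impossible. -/
theorem pair3_ok :
    (Data.pair3.ok (pairRels [4, 3, 5, 5, 3, 4, 5, 5]) subWords && hasW Data.pair3.words [3]) = true := by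
  decide +kernel

/-- Pattern 4 is impossible. -/
theorem pair4_ok :
    (Data.pair4.ok (pairRels [4, 5, 3, 5, 3, 5, 4, 5]) subWords && hasW Data.pair4.words [3]) = true := by
  decide +kernel

/-- Pattern 5 is impossible. -/
theorem pair5_ok :
    (Data.pair5.ok (pairRels [4, 5, 5, 3, 3, 5, 5, 4]) subWords && hasW Data.pair5.words [3]) = true := by
  decide +kernel

end Cfsg.Lib.Recog.OrderFive
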