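import Cfsg.Agent.Lib.Recog.OrderFive.Pair6
import Cfsg.Agent.Lib.Recog.OrderFive.Pair7
import Cfsg.Agent.Lib.Recog.OrderFive.Pair8
import Cfsg.Agent.Lib.Recog.OrderFive.Pair9
import Cfsg.Agent.Lib.Recog.OrderFive.Pair10
import Cfsg.Agent.Lib.Recog.OrderFive.Pair11

/-!
# Checks of the generated certificates: fifth involutions
-/

set_option autoImplicit false
set_option maxRecDepth 100000

namespace Cfsg.Lib.Recog.OrderFive

/-- Pattern 6 is impossible. -/
theorem pair6_ok :
    (Data.pair6.ok (pairRels [5, 3, 4, 5, 5, 4, 3, 5]) subWords && hasW Data.pair6.words [3]) = true := by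
  decide +kernel

/-- Pattern 7 is impossible. -/
theorem pair7_ok :
    (Data.pair7.ok (pairRels [5, 3, 5, 4, 5, 4, 5, 3]) subWords && hasW Data.pair7.words [3]) = true := by
  decide +kernel

/-- Pattern 8 is impossible. -/
theorem pair8_ok :
    (Data.pair8.ok (pairRels [5, 4, 3, 5, 5, 3, 4, 5]) subWords && hasW Data.pair8.words [3]) = true := by
  decide +kernel

/-- Pattern 9 is impossible. -/
theorem pair9_ok :
    (Data.pair9.ok (pairRels [5, 4, 5, 3, 5, 3, 5, 4]) subWords && hasW Data.pair9.words [3]) = true := by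
  decide +kernel

/-- Pattern 10 is impossible. -/
theorem pair10_ok :
    (Data.pair10.ok (pairRels [5, 5, 3, 4, 5, 5, 4, 3]) subWords && hasW Data.pair10.words [3]) = true := by
  decide +kernel

/-- Pattern 11 is impossible. -/
theorem pair11_ok :
    (Data.pair11.ok (pairRels [5, 5, 4, 3, 5, 5, 3, 4]) subWords && hasW Data.pair11.words [3]) = true := by
  decide +kernel

end Cfsg.Lib.Recog.OrderFive
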