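import Cfsg.Agent.Lib.Recog.OrderFive.Pattern
import Cfsg.Agent.Lib.Recog.OrderFive.ChecksPairA
import Cfsg.Agent.Lib.Recog.OrderFive.ChecksPairB
import Cfsg.Agent.Lib.ZStar.Main

/-!
# An involution inverting an elementary group of order nine has a dihedral centraliser
-/

set_option autoImplicit false
set_option linter.unusedSectionVars false

namespace Cfsg.Lib.Recog.OrderFive

open Cfsg.Lib.CosetEnum (gen eps)
open Cfsg.Lib.Invol (inv_mul_self inv_eq_self ne_one orderOf_eq_two_of)

variable {G : Type*} [Group G] [Finite G]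

/-- The word of the second involution. -/
def sixWord : List ℕ := [0, 1, 0, 2, 3, 0, 2, 1, 0, 3, 0, 1, 0, 2]

theorem prodW_reverse {x : ℕ → G} (hx : ∀ g, x g * x g = 1) :
    ∀ w : List ℕ, prodW x w.reverse = (prodW x w)⁻¹
  | [] => by simp
  | g :: w => by
    have hg : (gen x g)⁻¹ = gen x g := by
      refine inv_eq_of_mul_eq_one_left ?_
      unfold gen; split
      · simp
      · exact hx g
    rw [List.reverse_cons, prodW_append, prodW_reverse hx w, prodW_cons x g w, mul_inv_rev, hg,
      prodW_cons, prodW_nil, mul_one]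

theorem prodW_map {x y : ℕ → G} (f : ℕ → ℕ) : ∀ (w : List ℕ),
    (∀ g ∈ w, gen x (f g) = gen y g) → prodW x (w.map f) = prodW y w
  | [], _ => rfl
  | g :: w, h => by
    rw [List.map_cons, prodW_cons, prodW_cons, h g (by simp),
      prodW_map f w fun k hk => h k (by simp [hk])]

theorem gen_gens_swap (c a b d e : G) : ∀ g < 4,
    gen (gens c a b d e) (cond (Nat.beq g 3) 4 g) = gen (gens c a b e 1) g := by
  intro g hg
  interval_cases g <;> rfl

theorem mem_powRels_lt : ∀ ks ∈ sixPatterns, ∀ r ∈ powRels 0 ks, ∀ g ∈ r, g < 4 := by decide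

/-- A third involution cannot centralise the element of order four. -/
theorem eq_of_commute_four (h : OrdFive G) {c a b d e : G} (F : Frame c a b) (hd : orderOf d = 2)
    (hcd : Commute c d) (hne : d ≠ c)
    (hstd : ∀ r ∈ caseRels stdPattern, prodW (gens c a b d 1) r = 1)
    (he : orderOf e = 2) (hce : Commute c e)
    (her : Commute e (d * prodW (gens c a b d 1) sixWord)) : e = c := by
  by_contra hec
  obtain ⟨ks, hks, hk⟩ := exists_pattern h F he hce hec
  set x := gens c a b d e with hxdef
  have hx := gens_sq F (inv_mul_self hd) (inv_mul_self he)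
  have hsame : ∀ w : List ℕ, (∀ g ∈ w, g < 4) → prodW x w = prodW (gens c a b d 1) w := by
    intro w hw
    have := prodW_map (x := x) (y := gens c a b d 1) id w fun g hg => by
      have := hw g hg; interval_cases g <;> rfl
    simpa using this
  set f := prodW (gens c a b d 1) sixWord with hf
  have hR : ∀ r ∈ pairRels ks, prodW x r = 1 := by
    intro r hr
    simp only [pairRels, pairRels.extraPow, List.mem_append, List.mem_map,
      List.mem_singleton] at hr
    rcases hr with ((((hr | hr) | rfl) | ⟨r', hr', rfl⟩) | rfl) | hr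
    · exact baseRels_trivial F (inv_mul_self hd) hcd r hr
    · rw [hsame r (mem_powRels_lt stdPattern (by decide) r hr)]
      exact hstd r (by simp only [caseRels, List.mem_append]; exact Or.inl (Or.inr hr))
    · have h1 : c * e * (c * e) = 1 := by
        rw [show c * e * (c * e) = c * (e * c) * e by group, ← hce.eq,
          show c * (c * e) * e = c * c * (e * e) by group, F.cc, inv_mul_self he, one_mul]
      simpa [hxdef, prodW, gen, eps, gens, mul_assoc] using h1
    · rw [prodW_map _ r' fun g hg => gen_gens_swap c a b d e g (mem_powRels_lt ks hks r' hr' g hg)]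
      exact hk r' (by simp only [caseRels, List.mem_append]; exact Or.inl (Or.inr hr'))
    · have hsplit : ([4, 3, 0, 1, 0, 2, 3, 0, 2, 1, 0, 3, 0, 1, 0, 2, 4,
          2, 0, 1, 0, 3, 0, 1, 2, 0, 3, 2, 0, 1, 0, 3] : List ℕ) =
          [4] ++ ([3] ++ sixWord) ++ [4] ++ ([3] ++ sixWord).reverse := rfl
      rw [hsplit, prodW_append, prodW_append, prodW_append, prodW_reverse hx,
        hsame ([3] ++ sixWord) (by decide), prodW_append]
      have e4 : prodW x [4] = e := by simp [hxdef, prodW, gen, eps, gens]
      have e3 : prodW (gens c a b d 1) [3] = d := by simp [prodW, gen, eps, gens]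
      rw [e4, e3, ← hf, her.eq, mul_assoc (d * f), inv_mul_self he, mul_one, mul_inv_cancel]
    · exact extras_trivial hx 5 r hr
  have hH : ∀ r ∈ subWords, prodW x r ∈ Subgroup.closure ({c, c * a, c * b} : Set G) := by
    intro r hr
    simp only [subWords, List.mem_cons, List.not_mem_nil, or_false] at hr
    rcases hr with rfl | rfl | rfl <;> apply Subgroup.subset_closure <;>
      simp [hxdef, prodW, gen, eps, gens]
  have fin : ∀ (C : Cert) (ps : List ℕ), ks = ps →
      (C.ok (pairRels ps) subWords && hasW C.words [3]) = true → False := by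
    intro C ps hps hC
    subst hps
    rw [Bool.and_eq_true] at hC
    refine F.not_mem hd hcd hne ?_
    have := Cert.mem hC.1 hx hR _ hH (hasW_iff hC.2)
    simpa [hxdef, prodW, gen, eps, gens] using this
  simp only [sixPatterns, List.mem_cons, List.not_mem_nil, or_false] at hks
  rcases hks with e | e | e | e | e | e | e | e | e | e | e | e
  · exact fin _ _ e pair0_ok
  · exact fin _ _ e pair1_ok
  · exact fin _ _ e pair2_ok
  · exact fin _ _ e pair3_ok
  · exact fin _ _ e pair4_ok
  · exact fin _ _ e pair5_ok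
  · exact fin _ _ e pair6_ok
  · exact fin _ _ e pair7_ok
  · exact fin _ _ e pair8_ok
  · exact fin _ _ e pair9_ok
  · exact fin _ _ e pair10_ok
  · exact fin _ _ e pair11_ok

theorem pow_four_of_commute (h : OrdFive G) {c g : G} (hc : orderOf c = 2) (hcg : Commute c g) :
    g ^ 4 = 1 := by
  rcases h.pow_eq_one g with e | e | e | e | e
  · rw [e, one_pow]
  · rw [show g ^ 4 = (g ^ 2) ^ 2 by rw [← pow_mul], e, one_pow]
  · by_cases h1 : g = 1
    · rw [h1, one_pow]
    · exact absurd hcg (h.not_commute hc (orderOf_eq_prime e h1))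
  · exact e
  · by_cases h1 : g = 1
    · rw [h1, one_pow]
    · haveI := Fact.mk (show Nat.Prime 5 by decide)
      have h5 : orderOf g = 5 := orderOf_eq_prime e h1
      have := h (c * g)
      rw [hcg.orderOf_mul_eq_mul_orderOf_of_coprime (by rw [hc, h5]; decide), hc, h5] at this
      omega

/-- The centraliser of the inverting involution is dihedral of order eight. -/
theorem centralizer_dihedral (h : OrdFive G) (hO : Cfsg.oddCore G = ⊥) {c a₀ b₀ : G}
    (F₀ : Frame c a₀ b₀) :
    Nonempty (↥(Subgroup.centralizer ({c} : Set G)) ≃* DihedralGroup 4) := by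
  have hc := F₀.hc
  obtain ⟨d, hd, hcd, hne⟩ : ∃ d : G, orderOf d = 2 ∧ Commute c d ∧ d ≠ c := by
    by_contra hcon
    push Not at hcon
    have hiso : Cfsg.IsIsolatedInvolution c := ⟨hc, fun g hg =>
      hcon _ (by rw [Cfsg.Lib.Invol.orderOf_conj_eq, hc]) hg⟩
    have hz := Cfsg.Lib.ZStar.mem_center_of_isolated hO hiso
    exact absurd (F₀.eq_zero_of_commute (v := (1, 0))
      ((Subgroup.mem_center_iff.1 hz _).symm)) (by decide)
  obtain ⟨a, b, F, hstd⟩ := exists_standard h F₀ hd hcd hne
  set x := gens c a b d 1 with hxdef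
  have hx := gens_sq F (inv_mul_self hd) (one_mul (1 : G))
  set f := prodW x sixWord with hfdef
  have hwords := six_ok
  simp only [Bool.and_eq_true] at hwords
  have hval : ∀ {w : List ℕ}, hasW Data.six.words w = true → prodW x w = 1 := fun hw =>
    Cert.eq_one hwords.1.1.1 hx hstd (hasW_iff hw)
  have hff : f * f = 1 := by
    have := hval hwords.1.1.2
    rw [show ([0, 1, 0, 2, 3, 0, 2, 1, 0, 3, 0, 1, 0, 2, 0, 1, 0, 2, 3, 0, 2, 1, 0, 3, 0, 1, 0, 2] :
      List ℕ) = sixWord ++ sixWord from rfl, prodW_append] at this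
    exact this
  have e0 : prodW x [0] = c := by simp [hxdef, prodW, gen, eps, gens]
  have e3 : prodW x [3] = d := by simp [hxdef, prodW, gen, eps, gens]
  have hcf : c * f * (c * f) = 1 := by
    have := hval hwords.1.2
    rw [show ([0, 0, 1, 0, 2, 3, 0, 2, 1, 0, 3, 0, 1, 0, 2, 0, 0, 1, 0, 2, 3, 0, 2, 1, 0, 3, 0, 1,
      0, 2] : List ℕ) = [0] ++ sixWord ++ [0] ++ sixWord from rfl, prodW_append, prodW_append,
      prodW_append, e0] at this
    simpa [mul_assoc] using this
  have hrr : d * f * (d * f) * c = 1 := by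
    have := hval hwords.2
    rw [show ([3, 0, 1, 0, 2, 3, 0, 2, 1, 0, 3, 0, 1, 0, 2, 3, 0, 1, 0, 2, 3, 0, 2, 1, 0, 3, 0, 1,
      0, 2, 0] : List ℕ) = [3] ++ sixWord ++ [3] ++ sixWord ++ [0] from rfl, prodW_append,
      prodW_append, prodW_append, prodW_append, e0, e3] at this
    simpa [mul_assoc] using this
  set r := d * f with hrdef
  have hr2 : r * r = c := by rw [eq_inv_of_mul_eq_one_left hrr, inv_eq_self hc]
  have hf1 : f ≠ 1 := fun e => ne_one hc (by
    rw [hrdef, e, mul_one, inv_mul_self hd] at hr2; exact hr2.symm)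
  have hf : orderOf f = 2 := orderOf_eq_two_of hf1 hff
  have hcf' : Commute c f := by
    show c * f = f * c
    rw [eq_inv_of_mul_eq_one_left hcf, mul_inv_rev, inv_eq_self hc, inv_eq_self hf]
  have hdf : d ≠ f := fun e => ne_one hc (by
    rw [hrdef, ← e, inv_mul_self hd, one_mul] at hr2; exact hr2.symm)
  have hcr : Commute c r := hcd.mul_right hcf'
  have hr4 : r ^ 4 = 1 := by
    rw [show r ^ 4 = (r * r) * (r * r) by simp only [pow_succ, pow_zero, one_mul, mul_assoc], hr2,
      inv_mul_self hc]
  have hord : orderOf (d * f) = 4 := by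
    refine orderOf_eq_prime_pow (p := 2) (n := 1) ?_ (by norm_num; exact hr4)
    norm_num
    rw [pow_two]
    exact hr2 ▸ ne_one hc
  have key : ∀ g : G, Commute c g → Commute g r → g ∈ Subgroup.zpowers r := by
    intro g hcg hgr
    have hg4 := pow_four_of_commute h hc hcg
    have inv1 : ∀ z : G, z * z = 1 → Commute c z → Commute z r → z ∈ Subgroup.zpowers r := by
      intro z hz hcz hzr
      by_cases h1 : z = 1
      · rw [h1]; exact one_mem _
      · rw [eq_of_commute_four h F hd hcd hne hstd (orderOf_eq_two_of h1 hz) hcz hzr, ← hr2]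
        exact mul_mem (Subgroup.mem_zpowers r) (Subgroup.mem_zpowers r)
    by_cases hg2 : g * g = 1
    · exact inv1 g hg2 hcg hgr
    · have hgc : g * g = c := eq_of_commute_four h F hd hcd hne hstd
        (orderOf_eq_two_of hg2 (by
          rw [show g * g * (g * g) = g ^ 4 by simp only [pow_succ, pow_zero, one_mul, mul_assoc],
            hg4]))
        (hcg.mul_right hcg) (hgr.mul_left hgr)
      have := inv1 (g * r) (by
        rw [hgr.symm.mul_mul_mul_comm, hgc, hr2, inv_mul_self hc]) (hcg.mul_right hcr)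
        (hgr.mul_left (Commute.refl r))
      simpa [mul_assoc] using mul_mem this (inv_mem (Subgroup.mem_zpowers r))
  set S := Subgroup.closure ({d, f} : Set G) with hSdef
  have hrS : r ∈ S := mul_mem (Subgroup.subset_closure (by simp)) (Subgroup.subset_closure (by simp))
  have hdS : d ∈ S := Subgroup.subset_closure (by simp)
  set T := Subgroup.centralizer ({c} : Set G) with hTdef
  have hmemT : ∀ {g : G}, g ∈ T ↔ Commute c g := fun {g} => by
    rw [hTdef, Subgroup.mem_centralizer_singleton_iff]; exact ⟨fun e => e.symm, fun e => e.symm⟩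
  have hST : S ≤ T := by
    rw [hSdef, Subgroup.closure_le]
    rintro z (rfl | hz)
    · exact hmemT.2 hcd
    · rw [Set.mem_singleton_iff] at hz; subst hz; exact hmemT.2 hcf'
  have hnorm : ∀ g ∈ T, g * r * g⁻¹ ∈ S → g ∈ S := by
    intro g hg hgS
    have hcg := hmemT.1 hg
    have hconj2 : g * r * g⁻¹ * (g * r * g⁻¹) = c := by
      rw [show g * r * g⁻¹ * (g * r * g⁻¹) = g * (r * r) * g⁻¹ by group, hr2, ← hcg.eq,
        mul_inv_cancel_right]
    have hpm : g * r * g⁻¹ = r ∨ g * r * g⁻¹ = r⁻¹ := by
      obtain ⟨k, hk | hk⟩ := (Cfsg.Lib.Invol.mem_closure_pair hd hf).1 hgS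
      · rw [hk]
        have hk4 : r ^ k = r ^ (k % 4) := by
          conv_lhs => rw [← Int.emod_add_mul_ediv k 4, zpow_add, zpow_mul]
          simp [show r ^ (4 : ℤ) = 1 by exact_mod_cast hr4]
        rw [hk] at hconj2
        rw [hk4] at hconj2 ⊢
        have h0 := Int.emod_nonneg k (show (4 : ℤ) ≠ 0 by norm_num)
        have h1 := Int.emod_lt_of_pos k (show (0 : ℤ) < 4 by norm_num)
        interval_cases hm : k % 4
        · simp at hconj2; exact absurd hconj2.symm (ne_one hc)
        · left; simp
        · exfalso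
          rw [show r ^ (2 : ℤ) = c by rw [zpow_two, hr2], inv_mul_self hc] at hconj2
          exact ne_one hc hconj2.symm
        · right
          refine eq_inv_of_mul_eq_one_left ?_
          rw [← zpow_add_one]; exact_mod_cast hr4
      · rw [hk, Cfsg.Lib.Invol.mul_zpow_sq (inv_mul_self hd)
          (Cfsg.Lib.Invol.conj_mul_left hd hf)] at hconj2
        exact absurd hconj2.symm (ne_one hc)
    rcases hpm with e | e
    · exact Subgroup.zpowers_le.2 hrS (key g hcg (show g * r = r * g by
        conv_rhs => rw [← e]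
        rw [inv_mul_cancel_right]))
    · have e2 : Commute (d * g) r := by
        have hinv : d * r⁻¹ * d⁻¹ = r := by
          rw [← conj_inv, Cfsg.Lib.Invol.conj_mul_left hd hf, inv_inv]
        show d * g * r = r * (d * g)
        calc d * g * r = d * (g * r * g⁻¹) * g := by group
          _ = d * r⁻¹ * d⁻¹ * (d * g) := by rw [e]; group
          _ = r * (d * g) := by rw [hinv]
      have := Subgroup.zpowers_le.2 hrS (key (d * g) (hcd.mul_right hcg) e2)
      simpa [← mul_assoc, inv_mul_self hd] using mul_mem hdS this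
  have hTS : T ≤ S := by
    haveI : Fact (Nat.Prime 2) := ⟨Nat.prime_two⟩
    have hT2 : IsPGroup 2 T := fun g => ⟨2, Subtype.ext (by
      rw [Subgroup.coe_pow]; exact pow_four_of_commute h hc (hmemT.1 g.2))⟩
    by_contra hle
    haveI := hT2.isNilpotent
    have hlt : S.subgroupOf T < ⊤ := by
      rwa [lt_top_iff_ne_top, Ne, Subgroup.subgroupOf_eq_top]
    obtain ⟨g, hgN, hgS⟩ := SetLike.exists_of_lt
      (Group.normalizerCondition_of_isNilpotent (G := T) _ hlt)
    rw [Subgroup.mem_subgroupOf] at hgS
    rw [Subgroup.mem_normalizer_iff] at hgN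
    refine hgS (hnorm g g.2 ?_)
    have := (hgN ⟨r, hST hrS⟩).1 (by rw [Subgroup.mem_subgroupOf]; exact hrS)
    rw [Subgroup.mem_subgroupOf] at this
    simpa using this
  have hTeq : T = S := le_antisymm hTS hST
  obtain ⟨e⟩ : Nonempty (↥S ≃* DihedralGroup (orderOf (d * f))) := by
    have hinj : Function.Injective (Cfsg.Lib.Invol.dihedralHom (orderOf (d * f))
        (pow_orderOf_eq_one _) (inv_mul_self hd) (Cfsg.Lib.Invol.conj_mul_left hd hf)) :=
      Cfsg.Lib.Invol.dihedralHom_injective (inv_mul_self hd) (Cfsg.Lib.Invol.conj_mul_left hd hf)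
        (Cfsg.Lib.Invol.notMem_zpowers hd hf hdf)
    exact ⟨((MulEquiv.subgroupCongr (Cfsg.Lib.Invol.dihedralHom_range hd hf)).symm).trans
      (MonoidHom.ofInjective hinj).symm⟩
  rw [hord] at e
  exact ⟨(MulEquiv.subgroupCongr hTeq).trans e⟩

end Cfsg.Lib.Recog.OrderFive
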