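import Cfsg.Agent.Lib.Recog.OrderFive.Case33
import Cfsg.Agent.Lib.Recog.OrderFive.Case34
import Cfsg.Agent.Lib.Recog.OrderFive.Case35
import Cfsg.Agent.Lib.Recog.OrderFive.Case43
import Cfsg.Agent.Lib.Recog.OrderFive.Case44
import Cfsg.Agent.Lib.Recog.OrderFive.Case45
import Cfsg.Agent.Lib.Recog.OrderFive.Case53
import Cfsg.Agent.Lib.Recog.OrderFive.Case54
import Cfsg.Agent.Lib.Recog.OrderFive.Case55

/-!
# Checks of the generated certificates: case trees
-/

set_option autoImplicit false
set_option maxRecDepth 100000

namespace Cfsg.Lib.Recog.OrderFive

/-- The cases starting with 3, 3 are settled. -/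
theorem tree33_ok : Data.tree33.ok [3, 3] = true := by decide +kernel

/-- The cases starting with 3, 4 are settled. -/
theorem tree34_ok : Data.tree34.ok [3, 4] = true := by decide +kernel

/-- The cases starting with 3, 5 are settled. -/
theorem tree35_ok : Data.tree35.ok [3, 5] = true := by decide +kernel

/-- The cases starting with 4, 3 are settled. -/
theorem tree43_ok : Data.tree43.ok [4, 3] = true := by decide +kernel

/-- The cases starting with 4, 4 are settled. -/
theorem tree44_ok : Data.tree44.ok [4, 4] = true := by decide +kernel

/-- The cases starting with 4, 5 are settled. -/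
theorem tree45_ok : Data.tree45.ok [4, 5] = true := by decide +kernel

/-- The cases starting with 5, 3 are settled. -/
theorem tree53_ok : Data.tree53.ok [5, 3] = true := by decide +kernel

/-- The cases starting with 5, 4 are settled. -/
theorem tree54_ok : Data.tree54.ok [5, 4] = true := by decide +kernel

/-- The cases starting with 5, 5 are settled. -/
theorem tree55_ok : Data.tree55.ok [5, 5] = true := by decide +kernel

end Cfsg.Lib.Recog.OrderFive
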