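import Mathlib
import Cfsg.Prelude
import Cfsg.Agent.Lib.Recog.Icosahedral
import Cfsg.Agent.Lib.Recog.OrderFive.Basic

/-!
# Extensions of an elementary 2-group by `A₅` with element orders at most five

Such a group generated by an element of order four and one of order three has order at most 960.
-/

set_option autoImplicit false
set_option linter.style.haveILetI false
set_option linter.unusedSectionVars false

namespace Cfsg.Lib.Recog.OrderFive.FiveFour

/-- The alternating group of degree five. -/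
abbrev A5 := ↥(alternatingGroup (Fin 5))

/-- A double transposition. -/
def A0 : A5 := ⟨Equiv.swap 0 1 * Equiv.swap 2 3, Equiv.Perm.mem_alternatingGroup.mpr (by decide)⟩

/-- A three-cycle moving the point fixed by `A0`. -/
def B0 : A5 := ⟨Equiv.swap 0 2 * Equiv.swap 2 4, Equiv.Perm.mem_alternatingGroup.mpr (by decide)⟩

/-- A three-cycle normalizing a four group with `A0`. -/
def T0 : A5 := ⟨Equiv.swap 0 1 * Equiv.swap 1 2, Equiv.Perm.mem_alternatingGroup.mpr (by decide)⟩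

theorem fixed_facts : A0 * A0 = 1 ∧ A0 ≠ 1 ∧ B0 ^ 3 = 1 ∧ B0 ≠ 1 ∧ (A0 * B0) ^ 5 = 1 ∧
    A0 * B0 ≠ 1 ∧ T0 ^ 3 = 1 ∧ T0 ≠ 1 ∧ (T0 * A0) ^ 3 = 1 ∧ T0 * A0 ≠ 1 := by
  decide +kernel

theorem four_sq : ∀ x : A5, x ^ 4 = 1 → x ^ 2 = 1 := by decide +kernel

theorem conj_A0 : ∀ x : A5, x ^ 2 = 1 → x ≠ 1 → ∃ q : A5, q * x * q⁻¹ = A0 := by decide +kernel

/-- An element of `A5` from a permutation, junk value for odd ones. -/
def el (p : Equiv.Perm (Fin 5)) : A5 :=
  if h : Equiv.Perm.sign p = 1 then ⟨p, Equiv.Perm.mem_alternatingGroup.mpr h⟩ else 1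

theorem eq_el {P : A5 → Prop} {p q : A5} (h : p = q) (hq : P q) : P p := h ▸ hq

theorem all_cons {P : A5 → Prop} {a : A5} {l : List A5} (h : P a) (hl : ∀ x ∈ l, P x) :
    ∀ x ∈ a :: l, P x := List.forall_mem_cons.2 ⟨h, hl⟩

set_option maxHeartbeats 4000000 in
theorem grow_all {P : A5 → Prop} (h1 : P 1) (hT : P T0) (hB : P B0) (hBT : P (B0 * T0))
    (hA : ∀ p, P p → P (p * A0)) (hA' : ∀ p, P p → P (p * (T0⁻¹ * A0 * T0)))
    (htri : ∀ p q, (q * p⁻¹) ^ 3 = 1 → q * p⁻¹ ≠ 1 → P p → P q → P (q * p⁻¹ * q)) (q : A5) :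
    P q := by
  have k4 : P (el (Equiv.swap 0 1 * Equiv.swap 2 3)) := eq_el (by decide +kernel) (hA _ h1)
  have k5 : P (el (Equiv.swap 0 2 * Equiv.swap 1 3)) := eq_el (by decide +kernel) (hA' _ h1)
  have k6 : P (el (Equiv.swap 0 2 * Equiv.swap 2 3)) := eq_el (by decide +kernel) (hA _ hT)
  have k7 : P (el (Equiv.swap 1 3 * Equiv.swap 2 3)) := eq_el (by decide +kernel) (hA' _ hT)
  have k8 : P (el (Equiv.swap 0 1 * Equiv.swap 1 2 * Equiv.swap 2 3 * Equiv.swap 3 4)) := eq_el (by decide +kernel) (hA _ hB)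
  have k9 : P (el (Equiv.swap 0 4 * Equiv.swap 1 3)) := eq_el (by decide +kernel) (hA' _ hB)
  have k10 : P (el (Equiv.swap 0 4 * Equiv.swap 2 3)) := eq_el (by decide +kernel) (hA _ hBT)
  have k11 : P (el (Equiv.swap 0 2 * Equiv.swap 1 3 * Equiv.swap 2 3 * Equiv.swap 3 4)) := eq_el (by decide +kernel) (hA' _ hBT)
  have k12 : P (el (Equiv.swap 0 3 * Equiv.swap 1 2)) := eq_el (by decide +kernel) (hA' _ k4)
  have k13 : P (el (Equiv.swap 0 3 * Equiv.swap 1 3)) := eq_el (by decide +kernel) (hA' _ k6)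
  have k14 : P (el (Equiv.swap 0 3 * Equiv.swap 1 4 * Equiv.swap 2 4 * Equiv.swap 3 4)) := eq_el (by decide +kernel) (hA' _ k8)
  have k15 : P (el (Equiv.swap 0 3 * Equiv.swap 1 2 * Equiv.swap 2 4 * Equiv.swap 3 4)) := eq_el (by decide +kernel) (hA' _ k10)
  have k16 : P (el (Equiv.swap 0 2 * Equiv.swap 1 2)) := eq_el (by decide +kernel) (htri _ _ (by decide +kernel) (by decide +kernel) h1 hT)
  have k17 : P (el (Equiv.swap 1 2 * Equiv.swap 2 3)) := eq_el (by decide +kernel) (hA _ k16)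
  have k18 : P (el (Equiv.swap 0 1 * Equiv.swap 1 3)) := eq_el (by decide +kernel) (hA' _ k16)
  have k19 : P (el (Equiv.swap 0 3 * Equiv.swap 2 3)) := eq_el (by decide +kernel) (hA' _ k17)
  have k20 : P (el (Equiv.swap 0 4 * Equiv.swap 2 4)) := eq_el (by decide +kernel) (htri _ _ (by decide +kernel) (by decide +kernel) h1 hB)
  have k21 : P (el (Equiv.swap 0 1 * Equiv.swap 1 4 * Equiv.swap 2 3 * Equiv.swap 3 4)) := eq_el (by decide +kernel) (hA _ k20)
  have k22 : P (el (Equiv.swap 1 3 * Equiv.swap 2 4)) := eq_el (by decide +kernel) (hA' _ k20)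
  have k23 : P (el (Equiv.swap 0 3 * Equiv.swap 1 3 * Equiv.swap 2 3 * Equiv.swap 3 4)) := eq_el (by decide +kernel) (hA' _ k21)
  have k24 : P (el (Equiv.swap 0 4 * Equiv.swap 1 4)) := eq_el (by decide +kernel) (htri _ _ (by decide +kernel) (by decide +kernel) h1 hBT)
  have k25 : P (el (Equiv.swap 1 4 * Equiv.swap 2 3)) := eq_el (by decide +kernel) (hA _ k24)
  have k26 : P (el (Equiv.swap 0 2 * Equiv.swap 1 3 * Equiv.swap 2 4 * Equiv.swap 3 4)) := eq_el (by decide +kernel) (hA' _ k24)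
  have k27 : P (el (Equiv.swap 0 3 * Equiv.swap 1 2 * Equiv.swap 2 3 * Equiv.swap 3 4)) := eq_el (by decide +kernel) (hA' _ k25)
  have k28 : P (el (Equiv.swap 0 1 * Equiv.swap 2 4)) := eq_el (by decide +kernel) (htri _ _ (by decide +kernel) (by decide +kernel) hT hBT)
  have k29 : P (el (Equiv.swap 2 3 * Equiv.swap 3 4)) := eq_el (by decide +kernel) (hA _ k28)
  have k30 : P (el (Equiv.swap 0 4 * Equiv.swap 1 3 * Equiv.swap 2 3 * Equiv.swap 3 4)) := eq_el (by decide +kernel) (hA' _ k28)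
  have k31 : P (el (Equiv.swap 0 3 * Equiv.swap 1 4 * Equiv.swap 2 3 * Equiv.swap 3 4)) := eq_el (by decide +kernel) (hA' _ k29)
  have k32 : P (el (Equiv.swap 2 4 * Equiv.swap 3 4)) := eq_el (by decide +kernel) (htri _ _ (by decide +kernel) (by decide +kernel) h1 k29)
  have k33 : P (el (Equiv.swap 0 1 * Equiv.swap 3 4)) := eq_el (by decide +kernel) (hA _ k32)
  have k34 : P (el (Equiv.swap 0 4 * Equiv.swap 1 2 * Equiv.swap 2 4 * Equiv.swap 3 4)) := eq_el (by decide +kernel) (hA' _ k32)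
  have k35 : P (el (Equiv.swap 0 2 * Equiv.swap 1 4 * Equiv.swap 2 4 * Equiv.swap 3 4)) := eq_el (by decide +kernel) (hA' _ k33)
  have k36 : P (el (Equiv.swap 0 1 * Equiv.swap 1 2 * Equiv.swap 2 4 * Equiv.swap 3 4)) := eq_el (by decide +kernel) (htri _ _ (by decide +kernel) (by decide +kernel) hT k8)
  have k37 : P (el (Equiv.swap 0 2 * Equiv.swap 3 4)) := eq_el (by decide +kernel) (hA _ k36)
  have k38 : P (el (Equiv.swap 0 4 * Equiv.swap 1 4 * Equiv.swap 2 4 * Equiv.swap 3 4)) := eq_el (by decide +kernel) (hA' _ k36)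
  have k39 : P (el (Equiv.swap 1 4 * Equiv.swap 3 4)) := eq_el (by decide +kernel) (hA' _ k37)
  have k40 : P (el (Equiv.swap 1 3 * Equiv.swap 3 4)) := eq_el (by decide +kernel) (htri _ _ (by decide +kernel) (by decide +kernel) h1 k39)
  have k41 : P (el (Equiv.swap 0 3 * Equiv.swap 1 3 * Equiv.swap 2 4 * Equiv.swap 3 4)) := eq_el (by decide +kernel) (hA _ k40)
  have k42 : P (el (Equiv.swap 0 2 * Equiv.swap 1 4)) := eq_el (by decide +kernel) (hA' _ k40)
  have k43 : P (el (Equiv.swap 0 4 * Equiv.swap 1 2 * Equiv.swap 2 3 * Equiv.swap 3 4)) := eq_el (by decide +kernel) (hA' _ k41)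
  have k44 : P (el (Equiv.swap 0 4 * Equiv.swap 1 2)) := eq_el (by decide +kernel) (htri _ _ (by decide +kernel) (by decide +kernel) hB hBT)
  have k45 : P (el (Equiv.swap 0 2 * Equiv.swap 1 4 * Equiv.swap 2 3 * Equiv.swap 3 4)) := eq_el (by decide +kernel) (hA _ k44)
  have k46 : P (el (Equiv.swap 0 1 * Equiv.swap 1 3 * Equiv.swap 2 4 * Equiv.swap 3 4)) := eq_el (by decide +kernel) (hA' _ k44)
  have k47 : P (el (Equiv.swap 0 3 * Equiv.swap 3 4)) := eq_el (by decide +kernel) (hA' _ k45)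
  have k48 : P (el (Equiv.swap 0 4 * Equiv.swap 3 4)) := eq_el (by decide +kernel) (htri _ _ (by decide +kernel) (by decide +kernel) h1 k47)
  have k49 : P (el (Equiv.swap 0 1 * Equiv.swap 1 4 * Equiv.swap 2 4 * Equiv.swap 3 4)) := eq_el (by decide +kernel) (hA _ k48)
  have k50 : P (el (Equiv.swap 0 2 * Equiv.swap 1 2 * Equiv.swap 2 4 * Equiv.swap 3 4)) := eq_el (by decide +kernel) (hA' _ k48)
  have k51 : P (el (Equiv.swap 1 2 * Equiv.swap 3 4)) := eq_el (by decide +kernel) (hA' _ k49)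
  have k52 : P (el (Equiv.swap 1 2 * Equiv.swap 2 4)) := eq_el (by decide +kernel) (htri _ _ (by decide +kernel) (by decide +kernel) hT k44)
  have k53 : P (el (Equiv.swap 0 2 * Equiv.swap 1 2 * Equiv.swap 2 3 * Equiv.swap 3 4)) := eq_el (by decide +kernel) (hA _ k52)
  have k54 : P (el (Equiv.swap 0 4 * Equiv.swap 1 3 * Equiv.swap 2 4 * Equiv.swap 3 4)) := eq_el (by decide +kernel) (hA' _ k52)
  have k55 : P (el (Equiv.swap 0 3 * Equiv.swap 1 4)) := eq_el (by decide +kernel) (hA' _ k53)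
  have k56 : P (el (Equiv.swap 1 4 * Equiv.swap 2 4)) := eq_el (by decide +kernel) (htri _ _ (by decide +kernel) (by decide +kernel) h1 k52)
  have k57 : P (el (Equiv.swap 0 4 * Equiv.swap 1 4 * Equiv.swap 2 3 * Equiv.swap 3 4)) := eq_el (by decide +kernel) (hA _ k56)
  have k58 : P (el (Equiv.swap 0 1 * Equiv.swap 1 3 * Equiv.swap 2 3 * Equiv.swap 3 4)) := eq_el (by decide +kernel) (hA' _ k56)
  have k59 : P (el (Equiv.swap 0 3 * Equiv.swap 2 4)) := eq_el (by decide +kernel) (hA' _ k57)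
  have hmem : q ∈ ([1, T0, B0, B0 * T0, el (Equiv.swap 0 1 * Equiv.swap 2 3), el (Equiv.swap 0 2 * Equiv.swap 1 3), el (Equiv.swap 0 2 * Equiv.swap 2 3), el (Equiv.swap 1 3 * Equiv.swap 2 3), el (Equiv.swap 0 1 * Equiv.swap 1 2 * Equiv.swap 2 3 * Equiv.swap 3 4), el (Equiv.swap 0 4 * Equiv.swap 1 3), el (Equiv.swap 0 4 * Equiv.swap 2 3), el (Equiv.swap 0 2 * Equiv.swap 1 3 * Equiv.swap 2 3 * Equiv.swap 3 4), el (Equiv.swap 0 3 * Equiv.swap 1 2), el (Equiv.swap 0 3 * Equiv.swap 1 3), el (Equiv.swap 0 3 * Equiv.swap 1 4 * Equiv.swap 2 4 * Equiv.swap 3 4), el (Equiv.swap 0 3 * Equiv.swap 1 2 * Equiv.swap 2 4 * Equiv.swap 3 4), el (Equiv.swap 0 2 * Equiv.swap 1 2), el (Equiv.swap 1 2 * Equiv.swap 2 3), el (Equiv.swap 0 1 * Equiv.swap 1 3), el (Equiv.swap 0 3 * Equiv.swap 2 3), el (Equiv.swap 0 4 * Equiv.swap 2 4), el (Equiv.swap 0 1 * Equiv.swap 1 4 * Equiv.swap 2 3 * Equiv.swap 3 4), el (Equiv.swap 1 3 * Equiv.swap 2 4), el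 (Equiv.swap 0 3 * Equiv.swap 1 3 * Equiv.swap 2 3 * Equiv.swap 3 4), el (Equiv.swap 0 4 * Equiv.swap 1 4), el (Equiv.swap 1 4 * Equiv.swap 2 3), el (Equiv.swap 0 2 * Equiv.swap 1 3 * Equiv.swap 2 4 * Equiv.swap 3 4), el (Equiv.swap 0 3 * Equiv.swap 1 2 * Equiv.swap 2 3 * Equiv.swap 3 4), el (Equiv.swap 0 1 * Equiv.swap 2 4), el (Equiv.swap 2 3 * Equiv.swap 3 4), el (Equiv.swap 0 4 * Equiv.swap 1 3 * Equiv.swap 2 3 * Equiv.swap 3 4), el (Equiv.swap 0 3 * Equiv.swap 1 4 * Equiv.swap 2 3 * Equiv.swap 3 4), el (Equiv.swap 2 4 * Equiv.swap 3 4), el (Equiv.swap 0 1 * Equiv.swap 3 4), el (Equiv.swap 0 4 * Equiv.swap 1 2 * Equiv.swap 2 4 * Equiv.swap 3 4), el (Equiv.swap 0 2 * Equiv.swap 1 4 * Equiv.swap 2 4 * Equiv.swap 3 4), el (Equiv.swap 0 1 * Equiv.swap 1 2 * Equiv.swap 2 4 * Equiv.swap 3 4), el (Equiv.swap 0 2 * Equiv.swap 3 4), el (Equiv.swap 0 4 * Equiv.swap 1 4 * Equiv.swap 2 4 * Equiv.swap 3 4), el (Equiv.swap 1 4 * Equiv.swap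 3 4), el (Equiv.swap 1 3 * Equiv.swap 3 4), el (Equiv.swap 0 3 * Equiv.swap 1 3 * Equiv.swap 2 4 * Equiv.swap 3 4), el (Equiv.swap 0 2 * Equiv.swap 1 4), el (Equiv.swap 0 4 * Equiv.swap 1 2 * Equiv.swap 2 3 * Equiv.swap 3 4), el (Equiv.swap 0 4 * Equiv.swap 1 2), el (Equiv.swap 0 2 * Equiv.swap 1 4 * Equiv.swap 2 3 * Equiv.swap 3 4), el (Equiv.swap 0 1 * Equiv.swap 1 3 * Equiv.swap 2 4 * Equiv.swap 3 4), el (Equiv.swap 0 3 * Equiv.swap 3 4), el (Equiv.swap 0 4 * Equiv.swap 3 4), el (Equiv.swap 0 1 * Equiv.swap 1 4 * Equiv.swap 2 4 * Equiv.swap 3 4), el (Equiv.swap 0 2 * Equiv.swap 1 2 * Equiv.swap 2 4 * Equiv.swap 3 4), el (Equiv.swap 1 2 * Equiv.swap 3 4), el (Equiv.swap 1 2 * Equiv.swap 2 4), el (Equiv.swap 0 2 * Equiv.swap 1 2 * Equiv.swap 2 3 * Equiv.swap 3 4), el (Equiv.swap 0 4 * Equiv.swap 1 3 * Equiv.swap 2 4 * Equiv.swap 3 4), el (Equiv.swap 0 3 * Equiv.swap 1 4), el (Equiv.swap 1 4 * Equiv.swap 2 4), el (Equiv.swap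 0 4 * Equiv.swap 1 4 * Equiv.swap 2 3 * Equiv.swap 3 4), el (Equiv.swap 0 1 * Equiv.swap 1 3 * Equiv.swap 2 3 * Equiv.swap 3 4), el (Equiv.swap 0 3 * Equiv.swap 2 4)] : List A5) := by
    revert q; decide +kernel
  exact (all_cons h1 (all_cons hT (all_cons hB (all_cons hBT (all_cons k4 (all_cons k5 (all_cons k6 (all_cons k7 (all_cons k8 (all_cons k9 (all_cons k10 (all_cons k11 (all_cons k12 (all_cons k13 (all_cons k14 (all_cons k15 (all_cons k16 (all_cons k17 (all_cons k18 (all_cons k19 (all_cons k20 (all_cons k21 (all_cons k22 (all_cons k23 (all_cons k24 (all_cons k25 (all_cons k26 (all_cons k27 (all_cons k28 (all_cons k29 (all_cons k30 (all_cons k31 (all_cons k32 (all_cons k33 (all_cons k34 (all_cons k35 (all_cons k36 (all_cons k37 (all_cons k38 (all_cons k39 (all_cons k40 (all_cons k41 (all_cons k42 (all_cons k43 (all_cons k44 (all_cons k45 (all_cons k46 (all_cons k47 (all_cons k48 (all_cons k49 (all_cons k50 (all_cons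 k51 (all_cons k52 (all_cons k53 (all_cons k54 (all_cons k55 (all_cons k56 (all_cons k57 (all_cons k58 (all_cons k59 (fun _ h => absurd h List.not_mem_nil))))))))))))))))))))))))))))))))))))))))))))))))))))))))))))) q hmem

variable {H : Type*} [Group H] [Finite H]

/-- The bound on the order of the kernel. -/
theorem card_ker_le (π : H →* A5) (hsurj : Function.Surjective π)
    (hE : Cfsg.IsElementaryAbelian 2 π.ker) (h3 : ∀ g, π g ^ 3 = 1 → π g ≠ 1 → g ^ 3 = 1)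
    {a b : H} (hgen : Subgroup.closure ({a, b} : Set H) = ⊤) (ha : π a = A0) (hb : π b = B0)
    (hab : (a * b) ^ 5 = 1) : Nat.card π.ker ≤ 16 := by
  classical
  obtain ⟨hA, -, hB3, hB1, -, -, hT3, hT1, hTA3, hTA1⟩ := fixed_facts
  have hcomm : ∀ x y : H, x ∈ π.ker → y ∈ π.ker → x * y = y * x := fun x y hx hy =>
    congrArg Subtype.val (hE.1.is_comm.comm (⟨x, hx⟩ : π.ker) ⟨y, hy⟩)
  obtain ⟨f, hf⟩ := hsurj.hasRightInverse
  set u := a * a with hu
  have huE : u ∈ π.ker := by rw [MonoidHom.mem_ker, hu, map_mul, ha, hA]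
  have hconj : ∀ (g : H) {e : H}, e ∈ π.ker → g * e * g⁻¹ = f (π g) * e * (f (π g))⁻¹ := by
    intro g e he
    have hk : (f (π g))⁻¹ * g ∈ π.ker := by
      rw [MonoidHom.mem_ker, map_mul, map_inv, hf (π g), inv_mul_cancel]
    calc g * e * g⁻¹ = f (π g) * (((f (π g))⁻¹ * g) * e) * g⁻¹ := by group
      _ = f (π g) * (e * ((f (π g))⁻¹ * g)) * g⁻¹ := by rw [hcomm _ _ hk he]
      _ = f (π g) * e * (f (π g))⁻¹ := by group
  set v : A5 → H := fun q => f q * u * (f q)⁻¹ with hv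
  have hvE : ∀ q, v q ∈ π.ker := fun q => (π.normal_ker).conj_mem _ huE _
  have hvg : ∀ g, g * u * g⁻¹ = v (π g) := fun g => hconj g huE
  have hequiv : ∀ g q, g * v q * g⁻¹ = v (π g * q) := by
    intro g q
    rw [show g * v q * g⁻¹ = (g * f q) * u * (g * f q)⁻¹ by simp only [hv]; group, hvg, map_mul,
      hf q]
  have hv1 : v 1 = u := by rw [← map_one π, ← hvg]; group
  have r1 : ∀ q, v (q * A0) = v q := by
    intro q
    rw [← hf q, ← ha, ← map_mul, ← hvg, ← hvg]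
    simp [hu, mul_assoc]
  have r3 : ∀ q t, t ^ 3 = 1 → t ≠ 1 → v q * v (t * q) * v (t * t * q) = 1 := by
    intro q t ht ht1
    have hg : f t ^ 3 = 1 := h3 _ (by rw [hf t]; exact ht) (by rw [hf t]; exact ht1)
    have hπ : π (v q * f t) = t := by
      rw [map_mul, (hvE q : π (v q) = 1), one_mul, hf t]
    have heg : (v q * f t) ^ 3 = 1 := h3 _ (by rw [hπ]; exact ht) (by rw [hπ]; exact ht1)
    calc v q * v (t * q) * v (t * t * q)
        = v q * (f t * v q * (f t)⁻¹) * (f t * f t * v q * (f t * f t)⁻¹) := by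
          rw [hequiv, hequiv, map_mul, hf t]
      _ = (v q * f t) ^ 3 * (f t ^ 3)⁻¹ := by simp only [pow_succ, pow_zero]; group
      _ = 1 := by rw [heg, hg, inv_one, one_mul]
  have r2 : ∀ q, v (q * (T0⁻¹ * A0 * T0)) = v q := by
    intro q
    have e1 := r3 1 T0 hT3 hT1
    have e2 := r3 1 (T0 * A0) hTA3 hTA1
    simp only [mul_one] at e1 e2
    rw [r1 T0, show T0 * A0 * (T0 * A0) = T0 * A0 * T0 * A0 by group, r1] at e2
    have e3 : v (T0 * A0 * T0) = v (T0 * T0) := mul_left_cancel (e2.trans e1.symm)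
    have e4 := congrArg (fun x => f (q * (T0 * T0)⁻¹) * x * (f (q * (T0 * T0)⁻¹))⁻¹) e3
    simp only [hequiv, hf (q * (T0 * T0)⁻¹)] at e4
    rw [show q * (T0 * T0)⁻¹ * (T0 * A0 * T0) = q * (T0⁻¹ * A0 * T0) by group,
      show q * (T0 * T0)⁻¹ * (T0 * T0) = q by group] at e4
    exact e4
  let c : Fin 4 → π.ker := fun i =>
    ⟨v (![1, T0, B0, B0 * T0] i), hvE _⟩
  let K₁ : Subgroup π.ker := Subgroup.zpowers (c 0) ⊔ Subgroup.zpowers (c 1) ⊔
    Subgroup.zpowers (c 2) ⊔ Subgroup.zpowers (c 3)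
  set K := K₁.map π.ker.subtype with hKdef
  have hKle : K ≤ π.ker := Subgroup.map_subtype_le _
  have hall : ∀ q, v q ∈ K := by
    intro q
    refine grow_all (P := fun q => v q ∈ K) ?_ ?_ ?_ ?_ (fun p hp => ?_) (fun p hp => ?_)
      (fun p q' ht ht1 hp hq' => ?_) q
    · exact ⟨c 0, Subgroup.mem_sup_left (Subgroup.mem_sup_left (Subgroup.mem_sup_left
        (Subgroup.mem_zpowers _))), rfl⟩
    · exact ⟨c 1, Subgroup.mem_sup_left (Subgroup.mem_sup_left (Subgroup.mem_sup_right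
        (Subgroup.mem_zpowers _))), rfl⟩
    · exact ⟨c 2, Subgroup.mem_sup_left (Subgroup.mem_sup_right (Subgroup.mem_zpowers _)), rfl⟩
    · exact ⟨c 3, Subgroup.mem_sup_right (Subgroup.mem_zpowers _), rfl⟩
    · show v (p * A0) ∈ K
      rw [r1]; exact hp
    · show v (p * (T0⁻¹ * A0 * T0)) ∈ K
      rw [r2]; exact hp
    · show v (q' * p⁻¹ * q') ∈ K
      have e := r3 p (q' * p⁻¹) ht ht1
      rw [show q' * p⁻¹ * p = q' by group,
        show q' * p⁻¹ * (q' * p⁻¹) * p = q' * p⁻¹ * q' by group] at e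
      rw [eq_inv_of_mul_eq_one_right e]
      exact inv_mem (mul_mem hp hq')
  have hKcard : Nat.card K ≤ 16 := by
    haveI := hE.1
    have hz : ∀ i, Nat.card (Subgroup.zpowers (c i)) ≤ 2 := fun i => by
      rw [Nat.card_zpowers]
      refine orderOf_le_of_pow_eq_one (by norm_num) (Subtype.ext ?_)
      exact hE.2 _ (c i).2
    have hsup : ∀ U W : Subgroup π.ker, Nat.card ↥(U ⊔ W) ≤ Nat.card U * Nat.card W := by
      intro U W
      haveI : W.Normal := ⟨fun n hn g => by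
        rw [hE.1.is_comm.comm g n, mul_inv_cancel_right]; exact hn⟩
      have h := Subgroup.coe_mul_of_right_le_normalizer_left U W
      have hsurj : Function.Surjective (fun x : U × W =>
          (⟨x.1.1 * x.2.1, mul_mem (Subgroup.mem_sup_left x.1.2) (Subgroup.mem_sup_right x.2.2)⟩ :
            ↥(U ⊔ W))) := by
        rintro ⟨y, hy⟩
        obtain ⟨p, hp, w, hw, rfl⟩ := Subgroup.mem_sup_of_normal_right.1 hy
        exact ⟨(⟨p, hp⟩, ⟨w, hw⟩), rfl⟩
      exact (Nat.card_le_card_of_surjective _ hsurj).trans (le_of_eq (Nat.card_prod _ _))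
    rw [hKdef, Subgroup.card_subtype]
    refine (hsup _ _).trans ((Nat.mul_le_mul ((hsup _ _).trans (Nat.mul_le_mul
      ((hsup _ _).trans (Nat.mul_le_mul (hz 0) (hz 1))) (hz 2))) (hz 3)).trans ?_)
    norm_num
  let W : Subgroup H := Subgroup.closure (Set.range v)
  have hWK : W ≤ K := (Subgroup.closure_le _).2 (by rintro _ ⟨q, rfl⟩; exact hall q)
  haveI : W.Normal := ⟨fun n hn g => by
    induction hn using Subgroup.closure_induction with
    | mem z hz =>
      obtain ⟨q, rfl⟩ := hz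
      rw [hequiv]
      exact Subgroup.subset_closure ⟨_, rfl⟩
    | one => simp
    | mul x y _ _ hx hy => rw [conj_mul.symm]; exact mul_mem hx hy
    | inv x _ hx => rw [← conj_inv]; exact inv_mem hx⟩
  have hb3 : b ^ 3 = 1 := h3 b (by rw [hb]; exact hB3) (by rw [hb]; exact hB1)
  set σ := QuotientGroup.mk' W
  have hσa : σ a * σ a = 1 := by
    rw [← map_mul]
    exact (QuotientGroup.eq_one_iff _).2 (Subgroup.subset_closure ⟨1, hv1⟩)
  have h60 : Nat.card (H ⧸ W) ≤ 60 := by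
    refine (Cfsg.Lib.Recog.Icosa.finite_card_le_sixty (a := σ b) (b := (σ b)⁻¹ * σ a) ?_ ?_ ?_ ?_).2
    · rw [eq_top_iff, ← MonoidHom.range_eq_top.2 (QuotientGroup.mk'_surjective W),
        MonoidHom.range_eq_map, ← hgen, MonoidHom.map_closure, Subgroup.closure_le]
      rintro _ ⟨z, rfl | rfl, rfl⟩
      · have h1 : σ b * ((σ b)⁻¹ * σ z) ∈ Subgroup.closure ({σ b, (σ b)⁻¹ * σ z} : Set (H ⧸ W)) :=
          mul_mem (Subgroup.subset_closure (Or.inl rfl)) (Subgroup.subset_closure (Or.inr rfl))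
        rw [mul_inv_cancel_left] at h1
        exact h1
      · exact Subgroup.subset_closure (Or.inl rfl)
    · rw [← map_pow, hb3, map_one]
    · have h5 : (σ a * σ b) ^ 5 = 1 := by rw [← map_mul, ← map_pow, hab, map_one]
      have hai : (σ a)⁻¹ = σ a := inv_eq_of_mul_eq_one_left hσa
      rw [← inv_eq_one, ← inv_pow, mul_inv_rev, inv_inv, hai, h5]
    · rw [mul_inv_cancel_left, pow_two, hσa]
  have hidx : π.ker.index = 60 := by
    rw [Subgroup.index_ker, MonoidHom.range_eq_top.2 hsurj, Subgroup.card_top,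
      nat_card_alternatingGroup, Nat.card_fin]
    rfl
  have h1 := π.ker.card_mul_index
  have h2 := W.card_mul_index
  have h4 := Nat.mul_le_mul (Nat.le_of_dvd Nat.card_pos (Subgroup.card_dvd_of_le hWK))
    (h60 : W.index ≤ 60)
  have h5 := Nat.mul_le_mul hKcard (le_refl 60)
  rw [hidx] at h1
  have h6 : Nat.card W * W.index ≤ Nat.card K * 60 := h4
  omega

end Cfsg.Lib.Recog.OrderFive.FiveFour
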