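import Cfsg.Agent.Lib.Recog.OrderFive.Main
import Cfsg.Agent.Lib.Recog.OrderFive.FiveFour
import Cfsg.Agent.Lib.Linear.GLTwo
import Cfsg.Agent.S3491

/-!
# Extensions of an elementary 2-group by `A₅` generated by elements of orders four and three

Any two of them with element orders at most five are isomorphic to `2⁴ : A₅`.
-/

set_option autoImplicit false
set_option linter.style.haveILetI false
set_option linter.unusedSectionVars false

namespace Cfsg.Lib.Recog.OrderFive.FiveFour

variable {G : Type*} [Group G] [Finite G] {M : Type*} [Group M] [Finite M]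

theorem pow_three (h : OrdFive G) (π : G →* A5) (g : G) (hg : π g ^ 3 = 1) (hg1 : π g ≠ 1) :
    g ^ 3 = 1 := by
  haveI : Fact (Nat.Prime 3) := ⟨Nat.prime_three⟩
  have h3 : orderOf (π g) = 3 := orderOf_eq_prime hg hg1
  have hd := h3 ▸ orderOf_map_dvd π g
  have := h g
  have := orderOf_pos g
  obtain ⟨k, hk⟩ := hd
  have : orderOf g = 3 := by omega
  exact this ▸ pow_orderOf_eq_one g

theorem order_five (h : OrdFive G) (π : G →* A5) (g : G) (hg : π g ^ 5 = 1) (hg1 : π g ≠ 1) :
    orderOf g = 5 := by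
  haveI : Fact (Nat.Prime 5) := ⟨by decide⟩
  have h5 : orderOf (π g) = 5 := orderOf_eq_prime hg hg1
  have hd := h5 ▸ orderOf_map_dvd π g
  have := Nat.le_of_dvd (orderOf_pos g) hd
  have := h g
  omega

/-- Elements of orders four and three above the fixed ones. -/
theorem pick (h : OrdFive G) (π : G →* A5) (hsurj : Function.Surjective π)
    (hE : Cfsg.IsElementaryAbelian 2 π.ker) {g : G} (hg : orderOf g = 4) :
    ∃ a b : G, π a = A0 ∧ π b = B0 ∧ orderOf a = 4 ∧ orderOf b = 3 ∧ orderOf (a * b) = 5 := by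
  obtain ⟨-, -, hB3, hB1, hAB, hAB1, -⟩ := fixed_facts
  have h4 : π g ^ 4 = 1 := by rw [← map_pow, ← hg, pow_orderOf_eq_one, map_one]
  have h1 : π g ≠ 1 := fun e => by
    have := Nat.le_of_dvd two_pos (orderOf_dvd_of_pow_eq_one (hE.2 g e))
    omega
  obtain ⟨q, hq⟩ := conj_A0 _ (four_sq _ h4) h1
  obtain ⟨f, rfl⟩ := hsurj q
  obtain ⟨b, hb⟩ := hsurj B0
  have ha : π (f * g * f⁻¹) = A0 := by rw [map_mul, map_mul, map_inv, hq]
  haveI : Fact (Nat.Prime 3) := ⟨Nat.prime_three⟩
  refine ⟨f * g * f⁻¹, b, ha, hb, by rw [Cfsg.Lib.Invol.orderOf_conj_eq, hg],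
    orderOf_eq_prime (pow_three h π b (by rw [hb]; exact hB3) (by rw [hb]; exact hB1))
      (fun e => hB1 (by rw [← hb, e, map_one])), ?_⟩
  exact order_five h π _ (by rw [map_mul, ha, hb]; exact hAB) (by rw [map_mul, ha, hb]; exact hAB1)

/-- A non-trivial kernel has at least sixteen elements. -/
theorem card_ker_ge (h : OrdFive G) (π : G →* A5) (hsurj : Function.Surjective π)
    (hE : Cfsg.IsElementaryAbelian 2 π.ker) {e : G} (he : e ∈ π.ker) (he1 : e ≠ 1) :
    16 ≤ Nat.card π.ker := by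
  haveI : Fact (Nat.Prime 2) := ⟨Nat.prime_two⟩
  haveI h5p : Fact (Nat.Prime 5) := ⟨by decide⟩
  obtain ⟨-, -, -, -, hAB, hAB1, -⟩ := fixed_facts
  obtain ⟨y, hy⟩ := hsurj (A0 * B0)
  have hy5 : orderOf y = 5 := order_five h π y (by rw [hy]; exact hAB) (by rw [hy]; exact hAB1)
  haveI : Nontrivial π.ker := ⟨⟨⟨e, he⟩, 1, fun e' => he1 (congrArg Subtype.val e')⟩⟩
  have hp : IsPGroup 2 π.ker := fun x => ⟨1, Subtype.ext (by simpa using hE.2 x.1 x.2)⟩
  obtain ⟨k, hk0, hk⟩ := hp.nontrivial_iff_card.1 inferInstance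
  let Y : Subgroup (ConjAct G) := Subgroup.zpowers (ConjAct.toConjAct y)
  have hY : IsPGroup 5 Y := IsPGroup.of_card (n := 1) (by
    rw [Nat.card_zpowers, pow_one, ← hy5]
    exact orderOf_injective ConjAct.toConjAct.toMonoidHom (MulEquiv.injective _) y)
  have hmod := hY.card_modEq_card_fixedPoints (π.ker)
  have hfix : MulAction.fixedPoints Y π.ker = {1} := by
    ext x
    refine ⟨fun hx => ?_, ?_⟩
    · have e1 := congrArg Subtype.val (hx ⟨_, Subgroup.mem_zpowers _⟩)
      change y * x.1 * y⁻¹ = x.1 at e1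
      have hc : Commute (x.1) y := (show Commute y x.1 from mul_inv_eq_iff_eq_mul.1 e1).symm
      by_contra hx1
      have h2 : orderOf x.1 = 2 :=
        orderOf_eq_prime (hE.2 x.1 x.2) (fun e' => hx1 (Subtype.ext e'))
      have := h (x.1 * y)
      rw [hc.orderOf_mul_eq_mul_orderOf_of_coprime (by rw [h2, hy5]; decide), h2, hy5] at this
      omega
    · rintro rfl m
      exact smul_one m
  rw [hfix, show Nat.card ({1} : Set π.ker) = 1 by simp, hk] at hmod
  rw [hk]
  have : 4 ≤ k := by
    by_contra hlt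
    interval_cases k <;> simp [Nat.ModEq] at hmod
  calc 16 = 2 ^ 4 := rfl
    _ ≤ 2 ^ k := Nat.pow_le_pow_right two_pos this

theorem card_eq_sixty_mul (π : G →* A5) (hsurj : Function.Surjective π) :
    Nat.card G = Nat.card π.ker * 60 := by
  have hidx : π.ker.index = 60 := by
    rw [Subgroup.index_ker, MonoidHom.range_eq_top.2 hsurj, Subgroup.card_top,
      nat_card_alternatingGroup, Nat.card_fin]
    rfl
  rw [← hidx, π.ker.card_mul_index]

/-- Two groups with such generators are isomorphic. -/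
theorem iso_of_data (h : OrdFive G) (h' : OrdFive M) (π : G →* A5) (π' : M →* A5)
    (hE : Cfsg.IsElementaryAbelian 2 π.ker) (hE' : Cfsg.IsElementaryAbelian 2 π'.ker)
    {a b : G} (hgen : Subgroup.closure ({a, b} : Set G) = ⊤) (ha : π a = A0) (hb : π b = B0)
    {a' b' : M} (ha' : π' a' = A0) (hb' : π' b' = B0) (ha4 : orderOf a = 4)
    (ha4' : orderOf a' = 4) (hab : orderOf (a * b) = 5) (hab' : orderOf (a' * b') = 5)
    (hπ : Function.Surjective π) (hM : Nat.card M ≤ 960) : Nonempty (G ≃* M) := by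
  set K : Subgroup (G × M) := Subgroup.closure {(a, a'), (b, b')} with hK
  let A : K := ⟨(a, a'), Subgroup.subset_closure (Or.inl rfl)⟩
  let B : K := ⟨(b, b'), Subgroup.subset_closure (Or.inr rfl)⟩
  let p₁ : K →* G := (MonoidHom.fst G M).comp K.subtype
  let p₂ : K →* M := (MonoidHom.snd G M).comp K.subtype
  have hagree : ∀ x : K, π' (p₂ x) = π (p₁ x) := by
    intro x
    refine MonoidHom.eqOn_closure (f := π'.comp (MonoidHom.snd G M))
      (g := π.comp (MonoidHom.fst G M)) ?_ x.2
    rintro _ (rfl | rfl)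
    · exact ha'.trans ha.symm
    · exact hb'.trans hb.symm
  have hp₁ : Function.Surjective p₁ := by
    rw [← MonoidHom.range_eq_top, eq_top_iff, ← hgen, Subgroup.closure_le]
    rintro _ (rfl | rfl)
    · exact ⟨A, rfl⟩
    · exact ⟨B, rfl⟩
  have hgenK : Subgroup.closure ({A, B} : Set K) = ⊤ := by
    rw [eq_top_iff]
    intro x _
    have : ((Subgroup.closure ({A, B} : Set K)).map K.subtype) = K := by
      rw [MonoidHom.map_closure]
      show _ = Subgroup.closure {(a, a'), (b, b')}
      congr 1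
      simp [Set.image_insert_eq, A, B]
    obtain ⟨y, hy, hyx⟩ : (x : G × M) ∈ (Subgroup.closure ({A, B} : Set K)).map K.subtype := by
      rw [this]; exact x.2
    exact Subtype.ext hyx ▸ hy
  have hEK : Cfsg.IsElementaryAbelian 2 (π.comp p₁).ker := by
    have hm : ∀ x : K, x ∈ (π.comp p₁).ker → p₁ x ∈ π.ker ∧ p₂ x ∈ π'.ker := fun x hx =>
      ⟨hx, by rw [MonoidHom.mem_ker, hagree]; exact hx⟩
    refine ⟨⟨⟨fun x y => Subtype.ext (Subtype.ext (Prod.ext ?_ ?_))⟩⟩, fun x hx =>
      Subtype.ext (Prod.ext (hE.2 _ (hm x hx).1) (hE'.2 _ (hm x hx).2))⟩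
    · exact congrArg Subtype.val (hE.1.is_comm.comm ⟨_, (hm _ x.2).1⟩ ⟨_, (hm _ y.2).1⟩)
    · exact congrArg Subtype.val (hE'.1.is_comm.comm ⟨_, (hm _ x.2).2⟩ ⟨_, (hm _ y.2).2⟩)
  have hle := card_ker_le (π.comp p₁) (hπ.comp hp₁) hEK
    (fun x hx hx1 => Subtype.ext (Prod.ext (pow_three h π (p₁ x) hx hx1)
      (pow_three h' π' (p₂ x) (by rw [hagree]; exact hx) (by rw [hagree]; exact hx1))))
    (a := A) (b := B) hgenK ha hb
    (Subtype.ext (Prod.ext (by show (a * b) ^ 5 = 1; rw [← hab, pow_orderOf_eq_one])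
      (by show (a' * b') ^ 5 = 1; rw [← hab', pow_orderOf_eq_one])))
  have hKle : Nat.card K ≤ 960 := by
    rw [card_eq_sixty_mul (π.comp p₁) (hπ.comp hp₁)]
    omega
  have hG960 : 960 ≤ Nat.card G := by
    obtain ⟨hA, -⟩ := fixed_facts
    have := card_ker_ge h π hπ hE (e := a * a) (by rw [MonoidHom.mem_ker, map_mul, ha, hA])
      (fun e => by
        have := Nat.le_of_dvd two_pos (orderOf_dvd_of_pow_eq_one (show a ^ 2 = 1 by rw [pow_two, e]))
        omega)
    rw [card_eq_sixty_mul π hπ]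
    omega
  have hb₁ : Function.Bijective p₁ := by
    refine (Nat.bijective_iff_surjective_and_card p₁).2 ⟨hp₁, le_antisymm ?_ ?_⟩
    · omega
    · exact Nat.card_le_card_of_surjective _ hp₁
  have hρ : Function.Surjective (π'.comp p₂.range.subtype) := fun q => by
    obtain ⟨g, hg⟩ := (hπ.comp hp₁) q
    exact ⟨⟨p₂ g, g, rfl⟩, (hagree g).trans hg⟩
  have hR : 960 ≤ Nat.card p₂.range := by
    obtain ⟨hA, -⟩ := fixed_facts
    have hER : Cfsg.IsElementaryAbelian 2 (π'.comp p₂.range.subtype).ker :=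
      ⟨⟨⟨fun x y => Subtype.ext (Subtype.ext (congrArg Subtype.val
        (hE'.1.is_comm.comm (⟨x.1.1, x.2⟩ : π'.ker) ⟨y.1.1, y.2⟩) :))⟩⟩,
        fun x hx => Subtype.ext (hE'.2 _ hx)⟩
    have := card_ker_ge (G := p₂.range) (fun g => by rw [← Subgroup.orderOf_coe]; exact h' g) _ hρ
      hER (e := ⟨p₂ (A * A), A * A, rfl⟩) (by
        show π' (p₂ (A * A)) = 1
        rw [hagree, map_mul, map_mul]
        show π a * π a = 1
        rw [ha, hA])
      (fun e => by
        have e' : a' * a' = 1 := congrArg Subtype.val e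
        have := Nat.le_of_dvd two_pos
          (orderOf_dvd_of_pow_eq_one (show a' ^ 2 = 1 by rw [pow_two, e']))
        omega)
    rw [card_eq_sixty_mul _ hρ]
    omega
  have hb₂ : Function.Bijective p₂ := by
    have hs : Function.Surjective p₂ := MonoidHom.range_eq_top.1
      (Subgroup.eq_top_of_le_card _ (by omega))
    refine (Nat.bijective_iff_surjective_and_card p₂).2 ⟨hs, ?_⟩
    have h1 := Nat.card_le_card_of_surjective _ hs
    have h2 := Subgroup.card_le_card_group p₂.range
    omega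
  exact ⟨(MulEquiv.ofBijective p₁ hb₁).symm.trans (MulEquiv.ofBijective p₂ hb₂)⟩

open Cfsg.Agent.S3491 (G0 F4 orderOf_mem exists_orders)

/-- The order of the model. -/
theorem card_model : Nat.card G0 = 960 := by
  haveI := Fintype.ofFinite F4
  have hq : Fintype.card F4 = 4 := by
    rw [← Nat.card_eq_fintype_card, GaloisField.card 2 2 (by norm_num)]; norm_num
  rw [SemidirectProduct.card, Cfsg.Lib.Linear.Two.card_SL_two, Nat.card_congr Multiplicative.toAdd,
    Nat.card_fun, Nat.card_eq_fintype_card, hq, Nat.card_fin]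
  rfl

/-- A group with element orders at most five and an element of order four, whose two generated
subgroups of that kind are the whole group, is the model. -/
theorem iso_model (h : OrdFive G) {N : Subgroup G} (hN : N.Normal)
    (hNE : Cfsg.IsElementaryAbelian 2 N) (e : G ⧸ N ≃* A5) (h4 : ∃ g : G, orderOf g = 4)
    (hgen : ∀ a b : G, orderOf a = 4 → orderOf b = 3 → orderOf (a * b) = 5 →
      Subgroup.closure ({a, b} : Set G) = ⊤) : Nonempty (G ≃* G0) := by
  set π : G →* A5 := e.toMonoidHom.comp (QuotientGroup.mk' N) with hπdef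
  have hπ : Function.Surjective π := e.surjective.comp (QuotientGroup.mk'_surjective N)
  have hker : π.ker = N := by
    ext x
    simp [hπdef, QuotientGroup.eq_one_iff]
  obtain ⟨g, hg⟩ := h4
  obtain ⟨a, b, ha, hb, ha4, hb3, hab⟩ := pick h π hπ (by rw [hker]; exact hNE) hg
  have hM : OrdFive G0 := fun y => by
    have := orderOf_mem y
    simp only [Set.mem_insert_iff, Set.mem_singleton_iff] at this
    omega
  rcases structure_theorem hM (exists_orders (by simp)) (exists_orders (by simp))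
      (exists_orders (by simp)) with ⟨⟨e6⟩⟩ | ⟨N', hN', hNE', ⟨e'⟩⟩
  · exfalso
    have := Nat.card_congr e6.toEquiv
    rw [card_model, nat_card_alternatingGroup, Nat.card_fin] at this
    norm_num [Nat.factorial] at this
  set π' : G0 →* A5 := e'.toMonoidHom.comp (QuotientGroup.mk' N') with hπ'def
  have hπ' : Function.Surjective π' := e'.surjective.comp (QuotientGroup.mk'_surjective N')
  have hker' : π'.ker = N' := by
    ext x
    simp [hπ'def, QuotientGroup.eq_one_iff]
  obtain ⟨g', hg'⟩ := exists_orders (n := 4) (by simp)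
  obtain ⟨a', b', ha', hb', ha4', hb3', hab'⟩ := pick hM π' hπ' (by rw [hker']; exact hNE') hg'
  exact iso_of_data h hM π π' (by rw [hker]; exact hNE) (by rw [hker']; exact hNE')
    (hgen a b ha4 hb3 hab) ha hb ha' hb' ha4 ha4' hab hab' hπ card_model.le

end Cfsg.Lib.Recog.OrderFive.FiveFour
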