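import Cfsg.Agent.Lib.Recog.OrderFive.Centralizer
import Cfsg.Agent.Lib.Core.Cores
import Cfsg.Agent.Lib.Core.PSolvable
import Cfsg.Agent.S0144
import Cfsg.Agent.S1475
import Cfsg.Agent.S3035
import Cfsg.Agent.S3331

/-!
# Groups whose element orders are one to five
-/

set_option autoImplicit false
set_option linter.unusedSectionVars false

namespace Cfsg.Lib.Recog.OrderFive

open Cfsg.Lib.Invol (inv_mul_self inv_eq_self ne_one orderOf_eq_two_of)

variable {G : Type*} [Group G] [Finite G]

theorem commute_pow_eq_one {p : ℕ} [hp : Fact p.Prime] (h : OrdFive G) {z g : G}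
    (hz : orderOf z = p) (hgz : Commute g z) (hp2 : 3 ≤ p) : g ^ p = 1 := by
  by_cases hpg : p ∣ orderOf g
  · obtain ⟨k, hk⟩ := hpg
    have := h g
    have h1 := orderOf_pos g
    have h5 : p ≤ 5 := hz ▸ h z
    have hk1 : k = 1 := by
      rcases Nat.lt_or_ge k 2 with hk2 | hk2
      · rcases Nat.eq_zero_or_pos k with rfl | hk0
        · rw [mul_zero] at hk; omega
        · omega
      · have := Nat.mul_le_mul hp2 hk2; omega
    rw [← show orderOf g = p by rw [hk, hk1, mul_one], pow_orderOf_eq_one]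
  · have hco : (orderOf g).Coprime (orderOf z) := by
      rw [hz]; exact (hp.out.coprime_iff_not_dvd.2 hpg).symm
    have := h (g * z)
    rw [hgz.orderOf_mul_eq_mul_orderOf_of_coprime hco, hz] at this
    have h1 := orderOf_pos g
    have hlt : orderOf g = 1 := by
      by_contra hne
      have := Nat.mul_le_mul (show 2 ≤ orderOf g by omega) hp2
      omega
    rw [orderOf_eq_one_iff.1 hlt, one_pow]

theorem two_three (h : OrdFive G) {z y : G} (hz : z ^ 4 = 1) (hy : orderOf y = 3)
    (hc : Commute z y) : z = 1 := by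
  haveI : Fact (Nat.Prime 3) := ⟨Nat.prime_three⟩
  have h3 := commute_pow_eq_one h hy hc le_rfl
  have : z ^ 4 = z ^ 3 * z := pow_succ z 3
  rw [hz, h3, one_mul] at this
  exact this.symm

theorem prime_cases (h : OrdFive G) {p : ℕ} (hp : p.Prime) (hd : p ∣ Nat.card G) :
    p = 2 ∨ p = 3 ∨ p = 5 := by
  haveI := Fact.mk hp
  obtain ⟨g, hg⟩ := exists_prime_orderOf_dvd_card' p hd
  have := hg ▸ h g
  interval_cases p <;> simp_all (config := { decide := true })

theorem isSolvable_of_odd (h : OrdFive G) (M : Subgroup G) (hM : Odd (Nat.card M)) :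
    Group.IsSolvable M := by
  obtain ⟨a, m, hm, hcard⟩ := Nat.exists_eq_pow_mul_and_not_dvd
    (Nat.card_pos (α := M)).ne' 3 (by decide)
  have hmd : m ∣ Nat.card M := Dvd.intro_left _ hcard.symm
  have hm5 : m = 5 ^ m.primeFactorsList.length :=
    Nat.eq_prime_pow_of_unique_prime_dvd (by rintro rfl; simp at hm) fun {d} hd hdm => by
      rcases prime_cases h hd ((hdm.trans hmd).trans (Subgroup.card_subgroup_dvd_card M)) with
        rfl | rfl | rfl
      · exact absurd (hdm.trans hmd) (Nat.not_even_iff_odd.2 hM ∘ even_iff_two_dvd.2)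
      · exact absurd hdm hm
      · rfl
  exact Cfsg.Agent.S0144.result 3 5 a _ Nat.prime_three (by decide) (by rw [hcard]; congr 1)

theorem not_solvable (h : OrdFive G) (h2 : ∃ g : G, orderOf g = 2) (h3 : ∃ g : G, orderOf g = 3)
    (h5 : ∃ g : G, orderOf g = 5) : ¬ Group.IsSolvable G := by
  intro hs
  haveI := hs
  have hle := Cfsg.Agent.S1475.result (G := G) fun g => by
    have := h g
    have h0 := orderOf_pos g
    interval_cases hg : orderOf g
    · exact Or.inr (orderOf_eq_one_iff.1 hg)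
    · exact Or.inl Nat.prime_two.isPrimePow
    · exact Or.inl Nat.prime_three.isPrimePow
    · exact Or.inl ⟨2, 2, Nat.prime_two.prime, by norm_num, by norm_num⟩
    · exact Or.inl (show Nat.Prime 5 by decide).isPrimePow
  have hsub : ({2, 3, 5} : Finset ℕ) ⊆ (Nat.card G).primeFactors := by
    intro p hp
    simp only [Finset.mem_insert, Finset.mem_singleton] at hp
    refine Nat.mem_primeFactors.2 ⟨?_, ?_, Nat.card_pos.ne'⟩
    · rcases hp with rfl | rfl | rfl <;> decide
    · rcases hp with rfl | rfl | rfl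
      · obtain ⟨g, hg⟩ := h2; exact hg ▸ orderOf_dvd_natCard g
      · obtain ⟨g, hg⟩ := h3; exact hg ▸ orderOf_dvd_natCard g
      · obtain ⟨g, hg⟩ := h5; exact hg ▸ orderOf_dvd_natCard g
  have := Finset.card_le_card hsub
  simp at this
  omega

theorem nine_key {A : Type*} [CommGroup A] (a b c d e f g k i : A) :
    a ^ 3 * ((a * d * g) * (b * e * k) * (c * f * i)) =
      (a * d * g) * (a * b * c) * (a * e * i) * (a * f * k) := by
  simp only [pow_succ, pow_zero, one_mul]
  ac_rfl

def slThree : Matrix.SpecialLinearGroup (Fin 3) (ZMod 2) :=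
  ⟨!![0, 0, 1; 1, 0, 1; 0, 1, 0], by decide⟩

def slSeven : Matrix.SpecialLinearGroup (Fin 2) (ZMod 7) := ⟨!![1, 1; 0, 1], by decide⟩

def slSeven' : Matrix.SpecialLinearGroup (Fin 2) (ZMod 7) := ⟨!![1, 0; 1, 1], by decide⟩

theorem seven_SL32 : ∃ M : Matrix.SpecialLinearGroup (Fin 3) (ZMod 2), orderOf M = 7 := by
  refine ⟨slThree, ?_⟩
  haveI : Fact (Nat.Prime 7) := ⟨by norm_num⟩
  refine orderOf_eq_prime (Subtype.ext ?_) (fun e => ?_)
  · decide +kernel
  · exact absurd (congrArg Subtype.val e) (by decide +kernel)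

theorem seven_PSL27 :
    ∃ g : Matrix.ProjectiveSpecialLinearGroup (Fin 2) (ZMod 7), orderOf g = 7 := by
  have hpow : slSeven ^ 7 = 1 := Subtype.ext (by decide +kernel)
  have hne : (slSeven' * slSeven : Matrix.SpecialLinearGroup (Fin 2) (ZMod 7)).1 ≠
      (slSeven * slSeven').1 := by decide +kernel
  refine ⟨QuotientGroup.mk slSeven, ?_⟩
  haveI : Fact (Nat.Prime 7) := ⟨by norm_num⟩
  refine orderOf_eq_prime ?_ ?_
  · rw [← QuotientGroup.mk_pow, hpow]
    rfl
  · intro e
    exact hne (congrArg Subtype.val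
      (Subgroup.mem_center_iff.1 ((QuotientGroup.eq_one_iff _).1 e) slSeven'))

/-- A non-trivial normal 2-subgroup allows no elementary group of order nine. -/
theorem two_core_nine (h : OrdFive G) {N : Subgroup G} [N.Normal] (hN : IsPGroup 2 N)
    (hne : N ≠ ⊥) {a b : G} (ha : orderOf a = 3) (hb : orderOf b = 3) (hab : Commute a b)
    (h1 : a * b ≠ 1) (h2 : a * b⁻¹ ≠ 1) : False := by
  haveI : Fact (Nat.Prime 2) := ⟨Nat.prime_two⟩
  set Z := (Subgroup.center N).map N.subtype with hZ
  haveI : Nontrivial N := (Subgroup.nontrivial_iff_ne_bot N).2 hne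
  haveI := hN.center_nontrivial
  obtain ⟨⟨⟨z, hzN⟩, hzc⟩, hz1⟩ := exists_ne (1 : Subgroup.center N)
  have hzZ : z ∈ Z := ⟨⟨z, hzN⟩, hzc, rfl⟩
  have hz1' : z ≠ 1 := fun e => hz1 (Subtype.ext (Subtype.ext e))
  haveI hZn : Z.Normal := by rw [hZ]; infer_instance
  haveI : IsMulCommutative Z := ⟨⟨fun u v => by
    obtain ⟨u', hu', hu⟩ := u.2
    obtain ⟨v', -, hv⟩ := v.2
    refine Subtype.ext ?_
    show (u : G) * v = v * u
    rw [← hu, ← hv]
    exact congrArg Subtype.val (Subgroup.mem_center_iff.1 hu' v').symm⟩⟩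
  have hZ4 : ∀ w ∈ Z, w ^ 4 = 1 := by
    intro w hw
    obtain ⟨w', -, rfl⟩ := hw
    obtain ⟨k, hk⟩ := hN w'
    obtain ⟨j, hj, hjo⟩ := (Nat.dvd_prime_pow Nat.prime_two).1 (orderOf_dvd_of_pow_eq_one hk)
    refine orderOf_dvd_iff_pow_eq_one.1 ?_
    have h5 := h (N.subtype w')
    rw [show orderOf (N.subtype w') = 2 ^ j by rw [Subgroup.subtype_apply, Subgroup.orderOf_coe, hjo]]
      at h5 ⊢
    have : j ≤ 2 := by
      by_contra hc
      have := Nat.pow_le_pow_right (show 1 ≤ 2 by omega) (show 3 ≤ j by omega)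
      omega
    exact Nat.pow_dvd_pow 2 this
  have line : ∀ g : G, orderOf g = 3 → ∀ w ∈ Z,
      w * (g * w * g⁻¹) * (g * g * w * (g * g)⁻¹) = 1 := by
    intro g hg w hw
    have h3 : g * g * g = 1 := cube_eq_one hg
    set u := g * w * g⁻¹ with hu
    set v := g * g * w * (g * g)⁻¹ with hv
    have huZ : u ∈ Z := hZn.conj_mem w hw g
    have hvZ : v ∈ Z := hZn.conj_mem w hw (g * g)
    refine two_three h (hZ4 _ (mul_mem (mul_mem hw huZ) hvZ)) hg (Commute.symm ?_)
    show g * (w * u * v) = w * u * v * g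
    have e : g * (w * u * v) * g⁻¹ = u * v * w := by
      rw [show g * (w * u * v) * g⁻¹ = u * v * ((g * g * g) * w * (g * g * g)⁻¹) by
        rw [hu, hv]; group, h3]
      simp
    have hcomm : ∀ p q : G, p ∈ Z → q ∈ Z → p * q = q * p := fun p q hp hq =>
      congrArg Subtype.val (IsMulCommutative.is_comm.comm (⟨p, hp⟩ : Z) ⟨q, hq⟩)
    have e2 : u * v * w = w * u * v := by
      rw [hcomm _ w (mul_mem huZ hvZ) hw]
      exact (mul_assoc _ _ _).symm
    calc g * (w * u * v) = g * (w * u * v) * g⁻¹ * g := by group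
      _ = _ := by rw [e, e2]
  have o3 : ∀ g : G, g ^ 3 = 1 → g ≠ 1 → orderOf g = 3 := fun g hg hg1 =>
    orderOf_eq_prime hg hg1
  have ha3 : a ^ 3 = 1 := ha ▸ pow_orderOf_eq_one a
  have hb3 : b ^ 3 = 1 := hb ▸ pow_orderOf_eq_one b
  have hab1 : orderOf (a * b) = 3 := o3 _ (by rw [hab.mul_pow, ha3, hb3, one_mul]) h1
  have hab2 : orderOf (a * (b * b)) = 3 := by
    have hbb : b * b = b⁻¹ := eq_inv_of_mul_eq_one_left (cube_eq_one hb)
    rw [hbb]
    exact o3 _ (by rw [hab.inv_right.mul_pow, inv_pow, ha3, hb3, inv_one, one_mul]) h2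
  -- the nine conjugates
  let f : ℕ → ℕ → Z := fun i j => ⟨a ^ i * b ^ j * z * (a ^ i * b ^ j)⁻¹, hZn.conj_mem z hzZ _⟩
  let _ : CommGroup Z := { (inferInstance : Group Z) with mul_comm := IsMulCommutative.is_comm.comm }
  have hbj : ∀ i j : ℕ, b ^ j * a ^ i = a ^ i * b ^ j := fun i j => (hab.pow_pow i j).eq.symm
  have row : ∀ j, f 0 j * f 1 j * f 2 j = 1 := fun j => by
    refine Subtype.ext ?_
    have := line a ha (b ^ j * z * (b ^ j)⁻¹) (hZn.conj_mem z hzZ _)
    simpa [f, pow_succ, mul_assoc] using this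
  have col : f 0 0 * f 0 1 * f 0 2 = 1 := by
    refine Subtype.ext ?_
    have := line b hb z hzZ
    simpa [f, pow_succ, mul_assoc] using this
  have diag : f 0 0 * f 1 1 * f 2 2 = 1 := by
    refine Subtype.ext ?_
    have := line (a * b) hab1 z hzZ
    have e : a * b * (a * b) = a ^ 2 * b ^ 2 := by rw [← pow_two, hab.mul_pow]
    rw [e] at this
    simpa [f, pow_succ, mul_assoc] using this
  have anti : f 0 0 * f 1 2 * f 2 1 = 1 := by
    refine Subtype.ext ?_
    have := line (a * (b * b)) hab2 z hzZ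
    have e : a * (b * b) * (a * (b * b)) = a ^ 2 * b ^ 1 := by
      have hb4 : b * b * (b * b) = b ^ 1 := by
        rw [show b * b * (b * b) = b * b * b * b by group, cube_eq_one hb, one_mul, pow_one]
      rw [show a * (b * b) * (a * (b * b)) = a * ((b * b) * a) * (b * b) by group,
        ← (hab.mul_right hab).eq, show a * (a * (b * b)) * (b * b) = a * a * (b * b * (b * b)) by
          group, hb4, pow_two]
    rw [e] at this
    simpa [f, pow_succ, mul_assoc] using this
  have hrow1 : f 0 0 * f 1 0 * f 2 0 = 1 := row 0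
  have key := nine_key (f 0 0) (f 0 1) (f 0 2) (f 1 0) (f 1 1) (f 1 2) (f 2 0) (f 2 1) (f 2 2)
  rw [row 0, row 1, row 2, col, diag, anti] at key
  simp only [mul_one] at key
  have hz3 : z ^ 3 = 1 := by simpa [f] using congrArg Subtype.val key
  have hz4 := hZ4 z hzZ
  rw [pow_succ, hz3, one_mul] at hz4
  exact hz1' hz4

/-- There is no non-trivial normal 3- or 5-subgroup. -/
theorem odd_pgroup_trivial (h : OrdFive G) {p q : ℕ} [hp : Fact p.Prime] (hq : q.Prime)
    (hp3 : 3 ≤ p) (hq3 : 3 ≤ q) (hpq : p ≠ q) (h2 : ∃ t : G, orderOf t = 2)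
    (hqd : ∃ y : G, orderOf y = q) (N : Subgroup G) (hNn : N.Normal) (hN : IsPGroup p N) :
    N = ⊥ := by
  by_contra hne
  haveI := hNn
  set Z := (Subgroup.center N).map N.subtype with hZ
  haveI : Nontrivial N := (Subgroup.nontrivial_iff_ne_bot N).2 hne
  haveI := hN.center_nontrivial
  obtain ⟨⟨⟨z, hzN⟩, hzc⟩, hz1⟩ := exists_ne (1 : Subgroup.center N)
  have hzZ : z ∈ Z := ⟨⟨z, hzN⟩, hzc, rfl⟩
  have hz1' : z ≠ 1 := fun e => hz1 (Subtype.ext (Subtype.ext e))
  haveI hZn : Z.Normal := by rw [hZ]; infer_instance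
  have hcomm : ∀ u v : G, u ∈ Z → v ∈ Z → u * v = v * u := by
    rintro _ _ ⟨u', hu', rfl⟩ ⟨v', -, rfl⟩
    exact congrArg Subtype.val (Subgroup.mem_center_iff.1 hu' v').symm
  have hord : ∀ w ∈ Z, w ≠ 1 → orderOf w = p := by
    rintro _ ⟨w', -, rfl⟩ hw
    obtain ⟨k, hk⟩ := hN w'
    obtain ⟨j, hj, hjo⟩ := (Nat.dvd_prime_pow hp.out).1 (orderOf_dvd_of_pow_eq_one hk)
    have h5 := h (N.subtype w')
    rw [Subgroup.subtype_apply, Subgroup.orderOf_coe, hjo] at h5 ⊢
    rcases Nat.lt_or_ge j 2 with hj2 | hj2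
    · interval_cases j
      · exfalso
        refine hw ?_
        rw [show w' = 1 from orderOf_eq_one_iff.1 (by simpa using hjo)]
        rfl
      · simp
    · have := Nat.pow_le_pow_right (show 0 < p by omega) hj2
      have := Nat.mul_le_mul hp3 hp3
      rw [pow_two] at *
      omega
  set C := Subgroup.centralizer (Z : Set G) with hC
  haveI : C.Normal := by rw [hC]; infer_instance
  have hCp : ∀ g ∈ C, g ^ p = 1 := fun g hg =>
    commute_pow_eq_one h (hord z hzZ hz1')
      ((Subgroup.mem_centralizer_iff.1 hg z hzZ).symm) hp3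
  have hcop : ∀ (t : G) (r : ℕ), r.Prime → orderOf t = r → r ≠ p → t ∉ C := by
    intro t r hr ht hne' htC
    exact hne' (ht ▸ orderOf_eq_prime (hCp t htC) (fun e => by
      rw [e, orderOf_one] at ht; exact hr.ne_one ht.symm))
  have hinv : ∀ t : G, orderOf t = 2 → ∀ w ∈ Z, t * w * t = w⁻¹ := by
    intro t ht w hw
    have htt := inv_mul_self ht
    have hti := inv_eq_self ht
    have hwt : t * w * t ∈ Z := by simpa [hti] using hZn.conj_mem w hw t
    by_cases hm : w * (t * w * t) = 1
    · exact eq_inv_of_mul_eq_one_right hm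
    exfalso
    have hcm : Commute (w * (t * w * t)) t := by
      show w * (t * w * t) * t = t * (w * (t * w * t))
      calc w * (t * w * t) * t = t * w * t * w * t := by rw [hcomm w _ hw hwt]
        _ = t * (w * (t * w * t)) := by group
    have ho := hord _ (mul_mem hw hwt) hm
    have := h (w * (t * w * t) * t)
    rw [hcm.orderOf_mul_eq_mul_orderOf_of_coprime (by
      rw [ho, ht]; exact (Nat.coprime_primes hp.out Nat.prime_two).2 (by omega)), ho, ht] at this
    omega
  obtain ⟨t, ht⟩ := h2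
  obtain ⟨y, hy⟩ := hqd
  set π := QuotientGroup.mk' C
  have htu : π (y * t * y⁻¹) = π t := by
    have htt := inv_mul_self ht
    have hmem : y * t * y⁻¹ * t ∈ C := by
      rw [hC, Subgroup.mem_centralizer_iff]
      intro w hw
      have hu : orderOf (y * t * y⁻¹) = 2 := by rw [Cfsg.Lib.Invol.orderOf_conj_eq, ht]
      set u := y * t * y⁻¹
      have e1 : u * (t * w * t) * u = w := by
        rw [hinv t ht w hw, hinv u hu w⁻¹ (inv_mem hw), inv_inv]
      calc w * (u * t) = u * (t * w * t) * u * (u * t) := by rw [e1]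
        _ = u * t * w * (t * (u * u) * t) := by group
        _ = u * t * w := by rw [inv_mul_self hu, mul_one, htt, mul_one]
    have := (QuotientGroup.eq_one_iff _).2 hmem
    show π (y * t * y⁻¹) = π t
    have e : π (y * t * y⁻¹ * t) = 1 := this
    rw [map_mul] at e
    rw [eq_inv_of_mul_eq_one_left e, ← map_inv, inv_eq_self ht]
  have hct : Commute (π y) (π t) := by
    show π y * π t = π t * π y
    rw [← map_mul, ← map_mul, show y * t = y * t * y⁻¹ * y by group, map_mul, htu, map_mul]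
  have hoy : orderOf (π y) = q := by
    rcases (Nat.dvd_prime hq).1 (hy ▸ orderOf_map_dvd π y) with e | e
    · exact absurd ((QuotientGroup.eq_one_iff _).1 (orderOf_eq_one_iff.1 e))
        (hcop y q hq hy (Ne.symm hpq))
    · exact e
  have hot : orderOf (π t) = 2 := by
    rcases (Nat.dvd_prime Nat.prime_two).1 (ht ▸ orderOf_map_dvd π t) with e | e
    · exact absurd ((QuotientGroup.eq_one_iff _).1 (orderOf_eq_one_iff.1 e))
        (hcop t 2 Nat.prime_two ht (by omega))
    · exact e
  have hdvd : 2 * q ∣ orderOf (y * t) := by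
    have := orderOf_map_dvd π (y * t)
    rw [map_mul, hct.orderOf_mul_eq_mul_orderOf_of_coprime (by
      rw [hoy, hot]; exact (Nat.coprime_primes hq Nat.prime_two).2 (by omega)), hoy, hot] at this
    rwa [mul_comm]
  have := Nat.le_of_dvd (orderOf_pos _) hdvd
  have := h (y * t)
  omega

/-- A Sylow 3-subgroup of order at least nine gives a frame. -/
theorem exists_frame (h : OrdFive G) (h9 : 9 ∣ Nat.card G) {y c : G} (hy : orderOf y = 3)
    (hc : orderOf c = 2) (hyc : c * y * c = y⁻¹) :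
    ∃ b : G, Frame c y b := by
  classical
  haveI : Fact (Nat.Prime 3) := ⟨Nat.prime_three⟩
  have hcc := inv_mul_self hc
  set Q := Subgroup.centralizer ({y} : Set G) with hQdef
  have hmem : ∀ {g : G}, g ∈ Q ↔ Commute g y := fun {g} => by
    rw [hQdef, Subgroup.mem_centralizer_singleton_iff]; rfl
  have h3 : ∀ g ∈ Q, g ^ 3 = 1 := fun g hg => commute_pow_eq_one h hy (hmem.1 hg) le_rfl
  have hconj : ∀ g ∈ Q, c * g * c ∈ Q := fun g hg => by
    refine hmem.2 ?_
    have : Commute (c * g * c) (c * y * c) := by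
      show c * g * c * (c * y * c) = c * y * c * (c * g * c)
      rw [show c * g * c * (c * y * c) = c * (g * (c * c) * y) * c by group,
        show c * y * c * (c * g * c) = c * (y * (c * c) * g) * c by group, hcc, mul_one, mul_one,
        (hmem.1 hg).eq]
    rw [hyc] at this
    simpa using this.inv_right
  have hfix : ∀ g ∈ Q, Commute g c → g = 1 := fun g hg hgc => by
    by_contra h1
    exact h.not_commute hc (orderOf_eq_prime (h3 g hg) h1) hgc.symm
  have hinvQ : ∀ g ∈ Q, c * g * c = g⁻¹ := by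
    let φ : Q → Q := fun g => ⟨(g : G)⁻¹ * (c * g * c), mul_mem (inv_mem g.2) (hconj g g.2)⟩
    have hinj : Function.Injective φ := by
      intro u v e
      have e' : (u : G)⁻¹ * (c * u * c) = (v : G)⁻¹ * (c * v * c) := congrArg Subtype.val e
      refine Subtype.ext (mul_inv_eq_one.1 (hfix _ (mul_mem v.2 (inv_mem u.2)) ?_)).symm
      show (v : G) * (u : G)⁻¹ * c = c * ((v : G) * (u : G)⁻¹)
      have e'' : (u : G)⁻¹ * c * u = (v : G)⁻¹ * c * v :=
        mul_right_cancel (b := c) (by simpa only [mul_assoc] using e')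
      calc (v : G) * (u : G)⁻¹ * c = v * ((u : G)⁻¹ * c * u) * (u : G)⁻¹ := by group
        _ = v * ((v : G)⁻¹ * c * v) * (u : G)⁻¹ := by rw [e'']
        _ = c * ((v : G) * (u : G)⁻¹) := by group
    intro g hg
    obtain ⟨s, hs⟩ := (Finite.injective_iff_surjective.1 hinj) ⟨g, hg⟩
    have hg' : (s : G)⁻¹ * (c * s * c) = g := congrArg Subtype.val hs
    rw [← hg']
    simp [mul_assoc, hcc, ← mul_assoc c c, inv_eq_self hc]
  obtain ⟨b, hb, hby⟩ : ∃ b ∈ Q, b ∉ Subgroup.zpowers y := by
    obtain ⟨P, hP⟩ := (IsPGroup.of_card (n := 1) (by rw [Nat.card_zpowers, hy, pow_one]) :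
      IsPGroup 3 (Subgroup.zpowers y)).exists_le_sylow
    have hP9 : 9 ≤ Nat.card P := Nat.le_of_dvd Nat.card_pos
      (P.pow_dvd_card_of_pow_dvd_card (n := 2) (by norm_num; exact h9))
    have hyP : y ∈ (P : Subgroup G) := hP (Subgroup.mem_zpowers y)
    by_contra hcon
    push Not at hcon
    have hcard : ∀ U : Subgroup G, U ≤ Subgroup.zpowers y → Nat.card U ≤ 3 := fun U hU => by
      have := Nat.le_of_dvd Nat.card_pos (Subgroup.card_dvd_of_le hU)
      rwa [Nat.card_zpowers, hy] at this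
    haveI : Nontrivial (P : Subgroup G) := by
      rw [← Finite.one_lt_card_iff_nontrivial]; omega
    haveI := P.2.center_nontrivial
    obtain ⟨⟨⟨w, hwP⟩, hwc⟩, hw1⟩ := exists_ne (1 : Subgroup.center (P : Subgroup G))
    have hw : ∀ g ∈ (P : Subgroup G), g * w = w * g := fun g hg =>
      congrArg Subtype.val (Subgroup.mem_center_iff.1 hwc ⟨g, hg⟩)
    have hwy : w ∈ Subgroup.zpowers y := hcon w (hmem.2 (hw y hyP).symm)
    have hwo : w ≠ 1 := fun e => hw1 (Subtype.ext (Subtype.ext e))
    have hzw : Subgroup.zpowers w = Subgroup.zpowers y := by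
      refine Subgroup.eq_of_le_of_card_ge (Subgroup.zpowers_le.2 hwy) ?_
      rw [Nat.card_zpowers, hy, Nat.card_zpowers]
      have hd : orderOf w ∣ 3 := orderOf_dvd_of_pow_eq_one (h3 w (hmem.2 (hw y hyP).symm))
      rcases (Nat.dvd_prime Nat.prime_three).1 hd with e | e
      · exact absurd (orderOf_eq_one_iff.1 e) hwo
      · omega
    have hPy : (P : Subgroup G) ≤ Subgroup.zpowers y := fun g hg => by
      refine hcon g (hmem.2 ?_)
      have hyw : y ∈ Subgroup.zpowers w := hzw ▸ Subgroup.mem_zpowers y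
      obtain ⟨k, hk⟩ := Subgroup.mem_zpowers_iff.1 hyw
      exact hk ▸ (show Commute g w from hw g hg).zpow_right k
    have := hcard _ hPy
    omega
  refine ⟨b, ⟨hc, hy ▸ pow_orderOf_eq_one y, h3 b hb, (hmem.1 hb).symm, hyc, hinvQ b hb, ?_⟩⟩
  rintro ⟨i, j⟩ e
  have hj : j = 0 := by
    by_contra hj
    refine hby ?_
    have e' : b ^ j.val = (y ^ i.val)⁻¹ := eq_inv_of_mul_eq_one_right e
    have hmem' : b ^ j.val ∈ Subgroup.zpowers y :=
      e' ▸ inv_mem (pow_mem (Subgroup.mem_zpowers y) _)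
    fin_cases j
    · exact absurd rfl hj
    · have h1 : b ^ (1 : ℕ) ∈ Subgroup.zpowers y := hmem'
      simpa using h1
    · have hb2 : b = (b ^ 2) ^ 2 := by
        rw [← pow_mul, show (2 * 2 : ℕ) = 3 + 1 from rfl, pow_succ, h3 b hb, one_mul]
      rw [hb2]
      exact pow_mem hmem' 2
  subst hj
  have hi : y ^ i.val = 1 := by simpa [pt] using e
  have := orderOf_dvd_of_pow_eq_one hi
  rw [hy] at this
  have hi0 : i.val = 0 := Nat.eq_zero_of_dvd_of_lt this (ZMod.val_lt i)
  exact Prod.ext ((ZMod.val_eq_zero i).1 hi0) rfl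

theorem orderOf_eq_of_equiv {H : Type*} [Group H] (e : G ≃* H) (g : H) :
    orderOf (e.symm g) = orderOf g :=
  e.symm.orderOf_eq g

/-- The structure theorem. -/
theorem structure_theorem (h : OrdFive G) (h2 : ∃ g : G, orderOf g = 2)
    (h3 : ∃ g : G, orderOf g = 3) (h5 : ∃ g : G, orderOf g = 5) :
    Nonempty (G ≃* ↥(alternatingGroup (Fin 6))) ∨
      ∃ (N : Subgroup G) (_ : N.Normal), Cfsg.IsElementaryAbelian 2 N ∧
        Nonempty (G ⧸ N ≃* ↥(alternatingGroup (Fin 5))) := by
  classical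
  haveI : Fact (Nat.Prime 3) := ⟨Nat.prime_three⟩
  haveI : Fact (Nat.Prime 2) := ⟨Nat.prime_two⟩
  haveI h5p : Fact (Nat.Prime 5) := ⟨by decide⟩
  have hns := not_solvable h h2 h3 h5
  by_cases h9 : 9 ∣ Nat.card G
  · left
    obtain ⟨y₀, hy₀⟩ := h3
    have h2core : ∀ N : Subgroup G, N.Normal → IsPGroup 2 N → N = ⊥ := by
      intro N hNn hN
      by_contra hne
      haveI := hNn
      obtain ⟨P, hP⟩ := (IsPGroup.of_card (n := 1) (by rw [Nat.card_zpowers, hy₀, pow_one]) :
        IsPGroup 3 (Subgroup.zpowers y₀)).exists_le_sylow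
      have hP9 : 9 ≤ Nat.card P := Nat.le_of_dvd Nat.card_pos
        (P.pow_dvd_card_of_pow_dvd_card (n := 2) (by norm_num; exact h9))
      haveI : Nontrivial (P : Subgroup G) := by
        rw [← Finite.one_lt_card_iff_nontrivial]; omega
      haveI := P.2.center_nontrivial
      obtain ⟨⟨⟨a, haP⟩, hac⟩, ha1⟩ := exists_ne (1 : Subgroup.center (P : Subgroup G))
      have ha : a ≠ 1 := fun e => ha1 (Subtype.ext (Subtype.ext e))
      have hord : ∀ g ∈ (P : Subgroup G), g ≠ 1 → orderOf g = 3 := fun g hg hg1 => by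
        obtain ⟨k, hk⟩ := P.2 ⟨g, hg⟩
        obtain ⟨j, -, hjo⟩ := (Nat.dvd_prime_pow Nat.prime_three).1
          (orderOf_dvd_of_pow_eq_one (congrArg Subtype.val hk : g ^ 3 ^ k = 1))
        have h5' := h g
        rw [hjo] at h5' ⊢
        rcases Nat.lt_or_ge j 2 with hj2 | hj2
        · interval_cases j
          · exact absurd (orderOf_eq_one_iff.1 (by simpa using hjo)) hg1
          · simp
        · have := Nat.pow_le_pow_right (show 0 < 3 by omega) hj2
          omega
      have hoa := hord a haP ha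
      obtain ⟨b, hb, hbn⟩ : ∃ b ∈ (P : Subgroup G), b ∉ Subgroup.zpowers a := by
        by_contra hcon
        push Not at hcon
        have := Nat.le_of_dvd Nat.card_pos (Subgroup.card_dvd_of_le
          (show (P : Subgroup G) ≤ Subgroup.zpowers a from hcon))
        rw [Nat.card_zpowers, hoa] at this
        omega
      have hb1 : b ≠ 1 := fun e => hbn (e ▸ one_mem _)
      have hab : Commute a b :=
        (congrArg Subtype.val (Subgroup.mem_center_iff.1 hac ⟨b, hb⟩)).symm
      refine two_core_nine h hN hne hoa (hord b hb hb1) hab (fun e => hbn ?_) (fun e => hbn ?_)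
      · rw [eq_inv_of_mul_eq_one_right e]; exact inv_mem (Subgroup.mem_zpowers a)
      · rw [← mul_inv_eq_one.1 e]; exact Subgroup.mem_zpowers a
    have hO : Cfsg.oddCore G = ⊥ := by
      by_contra hne
      have hodd : Odd (Nat.card (Cfsg.oddCore G)) := by
        rw [Nat.odd_iff, ← Nat.two_dvd_ne_zero]
        exact Cfsg.Lib.Core.pPrimeCore_not_dvd 2 G
      obtain ⟨M, hM, hMle⟩ := Cfsg.Lib.Core.exists_isMinNormal
        (N := Cfsg.oddCore G) inferInstance hne
      have hModd : Odd (Nat.card M) := hodd.of_dvd_nat (Subgroup.card_dvd_of_le hMle)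
      obtain ⟨-, p, hp, -, hMp⟩ :=
        Cfsg.Lib.Core.minimal_solvable_elementary hM (isSolvable_of_odd h M hModd)
      haveI := Fact.mk hp
      haveI : Nontrivial M := (Subgroup.nontrivial_iff_ne_bot M).2 hM.2.1
      obtain ⟨k, hk0, hk⟩ := hMp.nontrivial_iff_card.1 inferInstance
      have hpd : p ∣ Nat.card M := hk ▸ dvd_pow_self p (by omega)
      rcases prime_cases h hp (hpd.trans (Subgroup.card_subgroup_dvd_card M)) with rfl | rfl | rfl
      · exact Nat.not_even_iff_odd.2 hModd (even_iff_two_dvd.2 hpd)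
      · exact hM.2.1 (odd_pgroup_trivial h (q := 5) h5p.out le_rfl (by omega) (by omega) h2 h5 M
          hM.1 hMp)
      · exact hM.2.1 (odd_pgroup_trivial h (q := 3) Nat.prime_three (by omega) le_rfl (by omega)
          h2 ⟨y₀, hy₀⟩ M hM.1 hMp)
    obtain ⟨y, hy, c, hc, hyc⟩ := exists_inverted h h2core h2 ⟨y₀, hy₀⟩
    obtain ⟨b, F⟩ := exists_frame h h9 hy hc hyc
    rcases Cfsg.Agent.S3035.result c hc (centralizer_dihedral h hO F) with e | ⟨⟨e⟩⟩ | ⟨⟨e⟩⟩ |
      ⟨⟨e⟩⟩ | e
    · exfalso
      rw [hO, sup_bot_eq] at e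
      have hy' : y ∈ Subgroup.centralizer ({c} : Set G) := e ▸ Subgroup.mem_top y
      exact h.not_commute hc hy (Subgroup.mem_centralizer_singleton_iff.1 hy').symm
    · exfalso
      obtain ⟨g, hg⟩ := h5
      have := hg ▸ orderOf_dvd_natCard g
      rw [Nat.card_congr e.toEquiv, Nat.card_eq_fintype_card, Fintype.card_perm, Fintype.card_fin]
        at this
      norm_num [Nat.factorial] at this
    · exfalso
      have := h (e.symm (Equiv.swap (0 : Fin 5) 1 * (Equiv.swap 2 3 * Equiv.swap 3 4)))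
      rw [orderOf_eq_of_equiv] at this
      have h6 : orderOf (Equiv.swap (0 : Fin 5) 1 * (Equiv.swap 2 3 * Equiv.swap 3 4)) = 6 := by
        rw [orderOf_eq_iff (by norm_num)]
        refine ⟨by decide, fun m hm hm0 => ?_⟩
        interval_cases m <;> decide
      omega
    · exfalso
      obtain ⟨M, hM⟩ := seven_SL32
      have := h (e.symm M)
      rw [orderOf_eq_of_equiv, hM] at this
      omega
    · exact e
  · obtain ⟨y, hy⟩ := h3
    have hC : Subgroup.centralizer (Subgroup.zpowers y : Set G) = Subgroup.zpowers y := by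
      set C := Subgroup.centralizer (Subgroup.zpowers y : Set G)
      have hle : Subgroup.zpowers y ≤ C := fun g hg => by
        rw [Subgroup.mem_centralizer_iff]
        intro k hk
        obtain ⟨i, rfl⟩ := Subgroup.mem_zpowers_iff.1 hk
        obtain ⟨j, rfl⟩ := Subgroup.mem_zpowers_iff.1 hg
        exact (Commute.zpow_zpow (Commute.refl y) i j).eq
      have hC3 : IsPGroup 3 C := fun g => ⟨1, Subtype.ext (by
        rw [Subgroup.coe_pow, pow_one]
        exact commute_pow_eq_one h hy
          (Subgroup.mem_centralizer_iff.1 g.2 y (Subgroup.mem_zpowers y)).symm le_rfl)⟩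
      obtain ⟨n, hn⟩ := IsPGroup.iff_card.1 hC3
      have hn1 : n ≤ 1 := by
        by_contra hc
        exact h9 ((pow_dvd_pow 3 (show 2 ≤ n by omega)).trans
          (hn ▸ Subgroup.card_subgroup_dvd_card C))
      refine (Subgroup.eq_of_le_of_card_ge hle ?_).symm
      rw [hn, Nat.card_zpowers, hy]
      exact (Nat.pow_le_pow_right (by norm_num) hn1).trans_eq (pow_one 3)
    rcases Cfsg.Agent.S3331.result (Subgroup.zpowers y) (by rw [Nat.card_zpowers, hy]) hC with
      ⟨N, hN, hnil, -, hq⟩ | ⟨N, hN, hcomm, hsq, he⟩ | ⟨⟨e⟩⟩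
    · exfalso
      refine hns ?_
      haveI := hnil
      haveI : Group.IsSolvable N := inferInstance
      haveI : Group.IsSolvable (G ⧸ N) := by
        have hc : ∃ a b : ℕ, Nat.card (G ⧸ N) = 2 ^ a * 3 ^ b := by
          rcases hq with hq | ⟨⟨e⟩⟩
          · exact ⟨0, 1, by rw [hq]; norm_num⟩
          · refine ⟨1, 1, ?_⟩
            rw [Nat.card_congr e.toEquiv, Nat.card_eq_fintype_card, Fintype.card_perm,
              Fintype.card_fin]
            rfl
        obtain ⟨a, b, hab⟩ := hc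
        exact Cfsg.Agent.S0144.result 2 3 a b Nat.prime_two Nat.prime_three hab
      exact solvable_of_ker_le_range N.subtype (QuotientGroup.mk' N)
        (by rw [QuotientGroup.ker_mk', Subgroup.range_subtype])
    · exact Or.inr ⟨N, hN, ⟨hcomm, hsq⟩, he⟩
    · exfalso
      obtain ⟨g, h7⟩ := seven_PSL27
      have := h (e.symm g)
      rw [orderOf_eq_of_equiv, h7] at this
      omega

end Cfsg.Lib.Recog.OrderFive
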