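import Cfsg.Agent.Lib.Recog.OrderFive.Basic
import Cfsg.Agent.Lib.Recog.OrderFive.ChecksTree

/-!
# An elementary group of order nine, an inverting involution and a second one commuting with it

The orders of the products of the second involution with the elements of the group of order nine
are those found in the alternating group of degree six.
-/

set_option autoImplicit false
set_option linter.unusedSectionVars false

namespace Cfsg.Lib.Recog.OrderFive

open Cfsg.Lib.CosetEnum (gen eps)
open Cfsg.Lib.Invol (inv_mul_self inv_eq_self ne_one orderOf_eq_two_of)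

variable {G : Type*} [Group G] [Finite G]

/-- The point with exponents `v` of the group generated by `a` and `b`. -/
def pt (a b : G) (v : ZMod 3 × ZMod 3) : G := a ^ v.1.val * b ^ v.2.val

theorem three_vec : ∀ v : ZMod 3 × ZMod 3, v + v + v = 0 := by decide

/-- An elementary group of order nine with an inverting involution. -/
structure Frame (c a b : G) : Prop where
  hc : orderOf c = 2
  ha : a ^ 3 = 1
  hb : b ^ 3 = 1
  hab : Commute a b
  hia : c * a * c = a⁻¹
  hib : c * b * c = b⁻¹
  indep : ∀ v : ZMod 3 × ZMod 3, pt a b v = 1 → v = 0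

namespace Frame

variable {c a b : G} (F : Frame c a b)
include F

theorem pt_add (v w : ZMod 3 × ZMod 3) : pt a b (v + w) = pt a b v * pt a b w := by
  have key : ∀ {g : G}, g ^ 3 = 1 → ∀ i j : ZMod 3, g ^ (i + j).val = g ^ i.val * g ^ j.val :=
    fun {g} hg i j => by
      rw [← pow_add, ZMod.val_add, ← pow_eq_pow_mod _ hg]
  simp only [pt, Prod.fst_add, Prod.snd_add, key F.ha, key F.hb]
  rw [mul_assoc, ← mul_assoc (a ^ w.1.val), (F.hab.pow_pow w.1.val v.2.val).eq]
  simp only [mul_assoc]

theorem pt_zero : pt a b 0 = 1 := by simp [pt]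

theorem pt_neg (v : ZMod 3 × ZMod 3) : pt a b (-v) = (pt a b v)⁻¹ :=
  eq_inv_of_mul_eq_one_left (by rw [← F.pt_add, neg_add_cancel, F.pt_zero])

theorem cc : c * c = 1 := inv_mul_self F.hc

theorem inverts (v : ZMod 3 × ZMod 3) : c * pt a b v * c = (pt a b v)⁻¹ := by
  have hci := inv_eq_self F.hc
  have key : ∀ {g : G} (n : ℕ), c * g * c = g⁻¹ → c * g ^ n * c = (g ^ n)⁻¹ := fun {g} n hg => by
    have := conj_pow (i := n) (a := c) (b := g)
    rw [hci, hg, inv_pow] at this
    exact this.symm
  rw [pt, mul_inv_rev, ← ((F.hab.pow_pow v.1.val v.2.val).inv_inv).eq, ← key _ F.hia,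
    ← key _ F.hib]
  simp [mul_assoc, ← mul_assoc c c, F.cc]

theorem eq_zero_of_commute {v : ZMod 3 × ZMod 3} (h : Commute c (pt a b v)) : v = 0 := by
  refine F.indep v ?_
  have h1 := F.inverts v
  rw [h.eq, mul_assoc, F.cc, mul_one] at h1
  have h3 : pt a b v ^ 3 = 1 := by
    rw [pow_succ, pow_two, ← F.pt_add, ← F.pt_add,
      three_vec v, F.pt_zero]
  rw [pow_succ, pow_two] at h3
  nth_rewrite 2 [h1] at h3
  simpa using h3

theorem order_pt {v : ZMod 3 × ZMod 3} (hv : v ≠ 0) : orderOf (pt a b v) = 3 := by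
  refine orderOf_eq_prime ?_ fun e => hv (F.indep v e)
  rw [pow_succ, pow_two, ← F.pt_add, ← F.pt_add,
    three_vec v, F.pt_zero]

/-- The subgroup generated by the frame. -/
theorem mem_cases {g : G} (hg : g ∈ Subgroup.closure ({c, c * a, c * b} : Set G)) :
    ∃ v, g = pt a b v ∨ g = c * pt a b v := by
  have hmv : ∀ v, pt a b v * c = c * pt a b (-v) := fun v => by
    rw [F.pt_neg, ← F.inverts, ← mul_assoc, ← mul_assoc, F.cc, one_mul]
  induction hg using Subgroup.closure_induction with
  | mem z hz =>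
    rcases hz with rfl | rfl | hz
    · exact ⟨0, Or.inr (by rw [F.pt_zero, mul_one])⟩
    · exact ⟨(1, 0), Or.inr (by simp [pt, ZMod.val_one])⟩
    · rw [Set.mem_singleton_iff] at hz
      exact ⟨(0, 1), Or.inr (by simp [hz, pt, ZMod.val_one])⟩
  | one => exact ⟨0, Or.inl F.pt_zero.symm⟩
  | mul x y _ _ hx hy =>
    obtain ⟨v, rfl | rfl⟩ := hx <;> obtain ⟨w, rfl | rfl⟩ := hy
    · exact ⟨v + w, Or.inl (F.pt_add v w).symm⟩
    · exact ⟨-v + w, Or.inr (by rw [← mul_assoc, hmv, mul_assoc, F.pt_add])⟩
    · exact ⟨v + w, Or.inr (by rw [mul_assoc, F.pt_add])⟩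
    · refine ⟨-v + w, Or.inl ?_⟩
      rw [show c * pt a b v * (c * pt a b w) = c * (pt a b v * c) * pt a b w by group, hmv,
        ← mul_assoc c c, F.cc, one_mul, F.pt_add]
  | inv x _ hx =>
    obtain ⟨v, rfl | rfl⟩ := hx
    · exact ⟨-v, Or.inl (F.pt_neg v).symm⟩
    · refine ⟨v, Or.inr ?_⟩
      rw [mul_inv_rev, inv_eq_self F.hc, ← F.pt_neg, hmv, neg_neg]

theorem not_mem {d : G} (hd : orderOf d = 2) (hcd : Commute c d) (hne : d ≠ c) :
    d ∉ Subgroup.closure ({c, c * a, c * b} : Set G) := by
  intro h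
  obtain ⟨v, rfl | rfl⟩ := F.mem_cases h
  · rw [F.eq_zero_of_commute hcd, F.pt_zero, orderOf_one] at hd
    omega
  · refine hne ?_
    rw [F.eq_zero_of_commute (v := v) ?_, F.pt_zero, mul_one]
    have := ((Commute.refl c).inv_right).mul_right hcd
    simpa using this

theorem order_cases (h : OrdFive G) {t : G} (ht : orderOf t = 2) (hct : Commute c t) (hne : t ≠ c)
    {v : ZMod 3 × ZMod 3} (hv : v ≠ 0) :
    ∃ k, (k = 3 ∨ k = 4 ∨ k = 5) ∧ (t * pt a b v) ^ k = 1 := by
  rcases h.pow_eq_one (t * pt a b v) with e | e | e | e | e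
  · exfalso
    have h3 := F.order_pt hv
    rw [eq_inv_of_mul_eq_one_right e, orderOf_inv, ht] at h3
    omega
  · exfalso
    have hinv : t * pt a b v * t = (pt a b v)⁻¹ :=
      eq_inv_of_mul_eq_one_left (by rw [← e, pow_two]; group)
    have hct2 : orderOf (c * t) = 2 := by
      refine orderOf_eq_two_of (fun h1 => hne ?_) ?_
      · rw [eq_inv_of_mul_eq_one_right h1, inv_eq_self F.hc]
      · rw [show c * t * (c * t) = c * (t * c) * t by group, ← hct.eq,
          show c * (c * t) * t = c * c * (t * t) by group, F.cc, inv_mul_self ht, one_mul]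
    refine h.not_commute hct2 (F.order_pt hv) ?_
    show c * t * pt a b v = pt a b v * (c * t)
    have h2 : c * (t * pt a b v * t) * c = pt a b v := by
      rw [hinv, ← F.pt_neg, F.inverts, F.pt_neg, inv_inv]
    calc c * t * pt a b v = c * (t * pt a b v * t) * c * (c * t) := by
          rw [show c * (t * pt a b v * t) * c * (c * t)
            = c * (t * pt a b v * t) * (c * c) * t by group, F.cc, mul_one]
          rw [show c * (t * pt a b v * t) * t = c * t * pt a b v * (t * t) by group,
            inv_mul_self ht, mul_one]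
      _ = _ := by rw [h2]
  · exact ⟨3, Or.inl rfl, e⟩
  · exact ⟨4, Or.inr (Or.inl rfl), e⟩
  · exact ⟨5, Or.inr (Or.inr rfl), e⟩

end Frame

/-- The involutions used as generators. -/
def gens (c a b d e : G) : ℕ → G
  | 0 => c
  | 1 => c * a
  | 2 => c * b
  | 3 => d
  | 4 => e
  | _ => 1

theorem gens_sq {c a b d e : G} (F : Frame c a b) (hd : d * d = 1) (he : e * e = 1) :
    ∀ g, gens c a b d e g * gens c a b d e g = 1
  | 0 => F.cc
  | 1 => by
    show c * a * (c * a) = 1
    rw [← mul_assoc, F.hia, inv_mul_cancel]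
  | 2 => by
    show c * b * (c * b) = 1
    rw [← mul_assoc, F.hib, inv_mul_cancel]
  | 3 => hd
  | 4 => he
  | _ + 5 => one_mul 1

/-- The exponents of the four lines. -/
def lineVec : Fin 4 → ZMod 3 × ZMod 3 := ![(1, 0), (0, 1), (1, 1), (1, -1)]

/-- The elements whose product with `d` the split words give. -/
theorem splitWord_eval {c a b d e : G} (F : Frame c a b) (l : Fin 4) :
    prodW (gens c a b d e) (splitWord l) = d * pt a b (lineVec l) ∧
      prodW (gens c a b d e) (splitWord (l + 4)) = d * c * pt a b (lineVec l) := by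
  have hcc : ∀ z : G, c * (c * z) = z := fun z => by rw [← mul_assoc, F.cc, one_mul]
  have hb1 : c * (b * c) = b⁻¹ := by rw [← mul_assoc, F.hib]
  have hb2 : b ^ (2 : ℕ) = b⁻¹ := eq_inv_of_mul_eq_one_left (by rw [← F.hb, pow_succ b 2])
  have hv : (-1 : ZMod 3).val = 2 := rfl
  fin_cases l <;>
    simp [prodW, gen, eps, splitWord, gens, lineVec, pt, ZMod.val_one, hv, hb2, mul_assoc, hcc,
      hb1]

theorem baseRels_trivial {c a b d e : G} (F : Frame c a b) (hd : d * d = 1) (hcd : Commute c d) :
    ∀ r ∈ baseRels, prodW (gens c a b d e) r = 1 := by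
  have hcc : ∀ z : G, c * (c * z) = z := fun z => by rw [← mul_assoc, F.cc, one_mul]
  have ha1 : ∀ z : G, c * (a * (c * z)) = a⁻¹ * z := fun z => by
    rw [← mul_assoc, ← mul_assoc, F.hia]
  have e0 : ∀ g : G, c * g * c = g⁻¹ → g ^ 3 = 1 → c * (c * g) * (c * (c * g)) * (c * (c * g)) = 1 :=
    fun g _ hg => by rw [hcc, ← pow_two, ← pow_succ, hg]
  intro r hr
  simp only [baseRels, List.mem_cons, List.not_mem_nil, or_false] at hr
  rcases hr with rfl | rfl | rfl | rfl | rfl
  · have := e0 a F.hia F.ha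
    simpa [prodW, gen, eps, gens, mul_assoc] using this
  · have := e0 b F.hib F.hb
    simpa [prodW, gen, eps, gens, mul_assoc] using this
  · have h1 : (a⁻¹ * b) ^ 3 = 1 := by rw [F.hab.inv_left.mul_pow, inv_pow, F.ha, F.hb]; simp
    rw [pow_succ, pow_two] at h1
    simpa [prodW, gen, eps, gens, mul_assoc, ha1] using h1
  · have h1 : a * c * b * (a * c * b) = 1 := by
      rw [show a * c * b * (a * c * b) = a * (c * (b * a) * c) * b by group, ← F.hab.eq,
        show c * (a * b) * c = (c * a * c) * (c * b * c) by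
          simp [mul_assoc, hcc], F.hia, F.hib]
      group
    simpa [prodW, gen, eps, gens, mul_assoc, hcc] using h1
  · have h1 : c * d * (c * d) = 1 := by
      rw [show c * d * (c * d) = c * (d * c) * d by group, ← hcd.eq,
        show c * (c * d) * d = c * c * (d * d) by group, F.cc, hd, one_mul]
    simpa [prodW, gen, eps, gens, mul_assoc] using h1

theorem powRels_append (k : ℕ) : ∀ (ks : List ℕ) (i : ℕ),
    powRels i (ks ++ [k]) = powRels i ks ++ [powW k (splitWord (i + ks.length))]
  | [], i => rfl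
  | j :: ks, i => by
    simp only [List.cons_append, powRels, powRels_append k ks, List.length_cons]
    rw [show i + 1 + ks.length = i + (ks.length + 1) by omega]

theorem Tree.sound {x : ℕ → G} (h : OrdFive G) (hx : ∀ g, x g * x g = 1) (H : Subgroup G)
    (hH : ∀ r ∈ subWords, prodW x r ∈ H) (hout : prodW x [3] ∉ H)
    (htor : ∀ w ∈ torsionWords, prodW x w ≠ 1)
    (hsplit : ∀ i < 8, ∃ k, (k = 3 ∨ k = 4 ∨ k = 5) ∧ prodW x (splitWord i) ^ k = 1) :
    ∀ (t : Tree) (ks : List ℕ), t.ok ks = true → (∀ r ∈ caseRels ks, prodW x r = 1) →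
      ∃ ks' ∈ sixPatterns, ∀ r ∈ caseRels ks', prodW x r = 1 := by
  have hstep : ∀ (ks : List ℕ) (k : ℕ), (∀ r ∈ caseRels ks, prodW x r = 1) →
      prodW x (splitWord ks.length) ^ k = 1 → ∀ r ∈ caseRels (ks ++ [k]), prodW x r = 1 := by
    intro ks k hks hk r hr
    simp only [caseRels, powRels_append, List.mem_append, Nat.zero_add,
      List.mem_singleton] at hr hks
    rcases hr with (hr | hr | rfl) | hr
    · exact hks r (Or.inl (Or.inl hr))
    · exact hks r (Or.inl (Or.inr hr))
    · rw [prodW_powW, hk]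
    · exact hks r (Or.inr hr)
  intro t
  induction t with
  | inside c =>
    intro ks hok hR
    rw [Tree.ok, Bool.and_eq_true] at hok
    exact absurd (Cert.mem hok.1 hx hR H hH (hasW_iff hok.2)) hout
  | collapse c w =>
    intro ks hok hR
    simp only [Tree.ok, Bool.and_eq_true] at hok
    exact absurd (Cert.eq_one hok.1.1 hx hR (hasW_iff hok.2)) (htor w (hasW_iff hok.1.2))
  | six =>
    intro ks hok hR
    exact ⟨ks, hasW_iff hok, hR⟩
  | split3 t3 t4 t5 i3 i4 i5 =>
    intro ks hok hR
    simp only [Tree.ok, Bool.and_eq_true, Nat.blt_eq] at hok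
    obtain ⟨⟨⟨hlen, h3⟩, h4⟩, h5⟩ := hok
    obtain ⟨k, rfl | rfl | rfl, hk⟩ := hsplit _ hlen
    · exact i3 _ h3 (hstep ks 3 hR hk)
    · exact i4 _ h4 (hstep ks 4 hR hk)
    · exact i5 _ h5 (hstep ks 5 hR hk)
  | split5 t1 t2 t3 t4 t5 i1 i2 i3 i4 i5 =>
    intro ks hok hR
    simp only [Tree.ok, Bool.and_eq_true] at hok
    obtain ⟨⟨⟨⟨h1, h2⟩, h3⟩, h4⟩, h5⟩ := hok
    rcases h.pow_eq_one (prodW x (splitWord ks.length)) with e | e | e | e | e
    · exact i1 _ h1 (hstep ks 1 hR (by rw [e, one_pow]))
    · exact i2 _ h2 (hstep ks 2 hR e)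
    · exact i3 _ h3 (hstep ks 3 hR e)
    · exact i4 _ h4 (hstep ks 4 hR e)
    · exact i5 _ h5 (hstep ks 5 hR e)

/-- The split-word relations of a second involution. -/
theorem exists_pattern (h : OrdFive G) {c a b d : G} (F : Frame c a b) (hd : orderOf d = 2)
    (hcd : Commute c d) (hne : d ≠ c) :
    ∃ ks ∈ sixPatterns, ∀ r ∈ caseRels ks, prodW (gens c a b d 1) r = 1 := by
  set x := gens c a b d 1 with hxdef
  have hx := gens_sq F (inv_mul_self hd) (one_mul (1 : G))
  have hout : prodW x [3] ∉ Subgroup.closure ({c, c * a, c * b} : Set G) := by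
    simpa [hxdef, prodW, gen, eps, gens] using F.not_mem hd hcd hne
  have hH : ∀ r ∈ subWords, prodW x r ∈ Subgroup.closure ({c, c * a, c * b} : Set G) := by
    intro r hr
    simp only [subWords, List.mem_cons, List.not_mem_nil, or_false] at hr
    rcases hr with rfl | rfl | rfl <;> apply Subgroup.subset_closure <;>
      simp [hxdef, prodW, gen, eps, gens]
  have htor : ∀ w ∈ torsionWords, prodW x w ≠ 1 := by
    intro w hw e
    have hcc : ∀ z : G, c * (c * z) = z := fun z => by rw [← mul_assoc, F.cc, one_mul]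
    have ha1 : ∀ z : G, c * (a * (c * z)) = a⁻¹ * z := fun z => by
      rw [← mul_assoc, ← mul_assoc, F.hia]
    simp only [torsionWords, List.mem_cons, List.not_mem_nil, or_false] at hw
    have ha2 : a ^ 2 = a⁻¹ := eq_inv_of_mul_eq_one_left (by rw [← pow_succ, F.ha])
    rcases hw with rfl | rfl | rfl | rfl <;>
      simp [hxdef, prodW, gen, eps, gens, mul_assoc, hcc, ha1] at e
    · exact absurd (F.indep (1, 0) (by simp [pt, ZMod.val_one, e])) (by decide)
    · exact absurd (F.indep (0, 1) (by simp [pt, ZMod.val_one, e])) (by decide)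
    · exact absurd (F.indep (2, 1) (by
        simp [pt, ZMod.val_one, show (2 : ZMod 3).val = 2 from rfl, ha2, e])) (by decide)
    · exact absurd (F.indep (1, 1) (by simp [pt, ZMod.val_one, e])) (by decide)
  have hdc : orderOf (d * c) = 2 := by
    refine orderOf_eq_two_of (fun h1 => hne ?_) ?_
    · rw [eq_inv_of_mul_eq_one_left h1, inv_eq_self F.hc]
    · rw [show d * c * (d * c) = d * (c * d) * c by group, hcd.eq,
        show d * (d * c) * c = d * d * (c * c) by group, inv_mul_self hd, F.cc, one_mul]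
  have hdcne : d * c ≠ c := fun e => ne_one hd (by simpa using e)
  have hsplit : ∀ i < 8, ∃ k, (k = 3 ∨ k = 4 ∨ k = 5) ∧ prodW x (splitWord i) ^ k = 1 := by
    intro i hi
    have hne0 : ∀ l, lineVec l ≠ 0 := by decide
    by_cases h4 : i < 4
    · obtain ⟨k, hk, e⟩ := F.order_cases h hd hcd hne (hne0 ⟨i, h4⟩)
      exact ⟨k, hk, by rw [hxdef, (splitWord_eval F ⟨i, h4⟩).1]; exact e⟩
    · obtain ⟨k, hk, e⟩ := F.order_cases h hdc (hcd.mul_right (Commute.refl c)) hdcne
        (hne0 ⟨i - 4, by omega⟩)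
      refine ⟨k, hk, ?_⟩
      have := (splitWord_eval (d := d) (e := 1) F ⟨i - 4, by omega⟩).2
      simp only at this
      rw [show i - 4 + 4 = i by omega] at this
      rw [hxdef, this]; exact e
  have hbase : ∀ r ∈ baseRels ++ extras 4, prodW x r = 1 := by
    intro r hr
    rcases List.mem_append.1 hr with hr | hr
    · exact baseRels_trivial F (inv_mul_self hd) hcd r hr
    · exact extras_trivial hx 4 r hr
  obtain ⟨k, hk, e0⟩ := hsplit 0 (by omega)
  obtain ⟨l, hl, e1⟩ := hsplit 1 (by omega)
  have hR : ∀ r ∈ caseRels [k, l], prodW x r = 1 := by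
    intro r hr
    simp only [caseRels, powRels, List.mem_append, List.mem_cons, List.not_mem_nil,
      or_false] at hr
    rcases hr with (hr | rfl | rfl) | hr
    · exact hbase r (List.mem_append_left _ hr)
    · rw [prodW_powW, e0]
    · rw [prodW_powW, e1]
    · exact hbase r (List.mem_append_right _ hr)
  have S := Tree.sound h hx _ hH hout htor hsplit
  rcases hk with rfl | rfl | rfl <;> rcases hl with rfl | rfl | rfl
  · exact S _ _ tree33_ok hR
  · exact S _ _ tree34_ok hR
  · exact S _ _ tree35_ok hR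
  · exact S _ _ tree43_ok hR
  · exact S _ _ tree44_ok hR
  · exact S _ _ tree45_ok hR
  · exact S _ _ tree53_ok hR
  · exact S _ _ tree54_ok hR
  · exact S _ _ tree55_ok hR

/-- The pattern used as standard. -/
def stdPattern : List ℕ := [3, 4, 5, 5, 4, 3, 5, 5]

theorem pattern_table : ∀ ks ∈ sixPatterns, ∃ v w : ZMod 3 × ZMod 3,
    (∀ i j : ZMod 3, (i * v.1 + j * w.1, i * v.2 + j * w.2) = (0 : ZMod 3 × ZMod 3) → i = 0 ∧ j = 0) ∧
    ∀ m : Fin 4, ∃ l : Fin 4,
      (![v, w, v + w, v - w] m = lineVec l ∨ ![v, w, v + w, v - w] m = -lineVec l) ∧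
      ks.getD l 0 = stdPattern.getD m 0 ∧ ks.getD (l + 4) 0 = stdPattern.getD (m + 4) 0 := by
  decide

theorem powRels_get (x : ℕ → G) : ∀ (ks : List ℕ) (i : ℕ),
    (∀ r ∈ powRels i ks, prodW x r = 1) ↔
      ∀ j < ks.length, prodW x (splitWord (i + j)) ^ ks.getD j 0 = 1
  | [], i => by simp [powRels]
  | k :: ks, i => by
    rw [powRels, List.forall_mem_cons, powRels_get x ks (i + 1), prodW_powW]
    constructor
    · rintro ⟨h0, hs⟩ (_ | j) hj
      · simpa using h0
      · have := hs j (by simpa using hj)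
        rw [show i + 1 + j = i + (j + 1) by omega] at this
        simpa using this
    · intro hs
      refine ⟨by simpa using hs 0 (by simp), fun j hj => ?_⟩
      have := hs (j + 1) (by simpa using hj)
      rw [show i + 1 + j = i + (j + 1) by omega]
      simpa using this

/-- The frame can be chosen so that a given commuting involution has the standard pattern. -/
theorem exists_standard (h : OrdFive G) {c a b d : G} (F : Frame c a b) (hd : orderOf d = 2)
    (hcd : Commute c d) (hne : d ≠ c) :
    ∃ a' b' : G, Frame c a' b' ∧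
      ∀ r ∈ caseRels stdPattern, prodW (gens c a' b' d 1) r = 1 := by
  obtain ⟨ks, hks, hR⟩ := exists_pattern h F hd hcd hne
  have hlen : ∀ ks ∈ sixPatterns, ks.length = 8 := by decide
  obtain ⟨v, w, hind, htab⟩ := pattern_table ks hks
  have hold := (powRels_get (gens c a b d 1) ks 0).1 fun r hr => hR r (by
    simp only [caseRels, List.mem_append]; exact Or.inl (Or.inr hr))
  have hmul : ∀ (i : ZMod 3) (u : ZMod 3 × ZMod 3),
      pt a b u ^ i.val = pt a b (i * u.1, i * u.2) := by
    intro i u
    have hn : ∀ n : ℕ, pt a b u ^ n = pt a b ((n : ZMod 3) * u.1, (n : ZMod 3) * u.2) := by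
      intro n
      induction n with
      | zero => simp [pt]
      | succ n ih =>
        rw [pow_succ, ih, ← F.pt_add]
        congr 1
        ext <;> simp [add_mul]
    rw [hn]; simp
  have hpt : ∀ u : ZMod 3 × ZMod 3, pt (pt a b v) (pt a b w) u =
      pt a b (u.1 * v.1 + u.2 * w.1, u.1 * v.2 + u.2 * w.2) := fun u => by
    conv_lhs => rw [pt, hmul, hmul, ← F.pt_add]
    rfl
  have F' : Frame c (pt a b v) (pt a b w) :=
    { hc := F.hc
      ha := by
        rw [pow_succ, pow_two, ← F.pt_add, ← F.pt_add,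
          three_vec v, F.pt_zero]
      hb := by
        rw [pow_succ, pow_two, ← F.pt_add, ← F.pt_add,
          three_vec w, F.pt_zero]
      hab := show _ * _ = _ * _ by rw [← F.pt_add, ← F.pt_add, add_comm]
      hia := F.inverts v
      hib := F.inverts w
      indep := fun u e => by
        rw [hpt] at e
        obtain ⟨e1, e2⟩ := hind _ _ (F.indep _ e)
        exact Prod.ext e1 e2 }
  refine ⟨_, _, F', ?_⟩
  have hflip : ∀ {t : G} {u : ZMod 3 × ZMod 3} {k : ℕ}, t * t = 1 →
      (t * pt a b u) ^ k = 1 → (t * pt a b (-u)) ^ k = 1 := by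
    intro t u k htt e
    have e1 : t * pt a b (-u) = (pt a b u * t)⁻¹ := by
      rw [mul_inv_rev, inv_eq_of_mul_eq_one_left htt, F.pt_neg]
    have e2 : pt a b u * t = t * (t * pt a b u) * t⁻¹ := by
      rw [inv_eq_of_mul_eq_one_left htt, ← mul_assoc t t, htt, one_mul]
    rw [e1, inv_pow, e2, conj_pow, e, mul_one, mul_inv_cancel, inv_one]
  have hdcsq : d * c * (d * c) = 1 := by
    rw [show d * c * (d * c) = d * (c * d) * c by group, hcd.eq,
      show d * (d * c) * c = d * d * (c * c) by group, inv_mul_self hd, F.cc, one_mul]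
  have hnew : ∀ m : Fin 4,
      prodW (gens c (pt a b v) (pt a b w) d 1) (splitWord m) ^ stdPattern.getD m 0 = 1 ∧
      prodW (gens c (pt a b v) (pt a b w) d 1) (splitWord (m + 4)) ^
        stdPattern.getD (m + 4) 0 = 1 := by
    intro m
    obtain ⟨l, hl, k1, k2⟩ := htab m
    have o1 := hold l (by rw [hlen ks hks]; omega)
    have o2 := hold (l + 4) (by rw [hlen ks hks]; omega)
    rw [Nat.zero_add, (splitWord_eval F l).1, k1] at o1
    rw [Nat.zero_add, (splitWord_eval F l).2, k2] at o2
    have hm : pt (pt a b v) (pt a b w) (lineVec m) = pt a b (![v, w, v + w, v - w] m) := by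
      rw [hpt]; congr 1
      fin_cases m <;> ext <;> simp [lineVec, sub_eq_add_neg]
    rw [(splitWord_eval F' m).1, (splitWord_eval F' m).2, hm]
    rcases hl with e | e <;> rw [e]
    · exact ⟨o1, o2⟩
    · exact ⟨hflip (inv_mul_self hd) o1, hflip hdcsq o2⟩
  intro r hr
  simp only [caseRels, List.mem_append] at hr
  rcases hr with (hr | hr) | hr
  · exact baseRels_trivial F' (inv_mul_self hd) hcd r hr
  · refine (powRels_get _ stdPattern 0).2 (fun j hj => ?_) r hr
    rw [Nat.zero_add]
    simp only [stdPattern, List.length_cons, List.length_nil] at hj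
    by_cases h4 : j < 4
    · exact (hnew ⟨j, h4⟩).1
    · have := (hnew ⟨j - 4, by omega⟩).2
      simp only at this
      rwa [show j - 4 + 4 = j by omega] at this
  · exact extras_trivial (gens_sq F' (inv_mul_self hd) (one_mul 1)) 4 r hr

end Cfsg.Lib.Recog.OrderFive
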